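import Groth.Agent.ResProp.EF.K863.Dat
import Groth.Agent.ResProp.EF.K964.QBC

/-!
# Lifts at flat points: existence and estimates

`bcModel hx : BCModel m hn x (rhoBC x ρ)` for `x` flat, `LP_nonempty`, `LP_mem`, `LP_sub_mem_two`, `LP_sub_mem`.
-/

set_option autoImplicit false

universe u v w

open MvPolynomial

namespace Groth.Agent.ResProp.EF.K863

open K980

section

variable {R : Type u} {R' : Type v} [CommRing R] [CommRing R'] {D : Type w} [CommRing D] [Algebra R D]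
  {V : Type*} [AddCommGroup V] [Module D V] [Module R V] [IsScalarTower R D V] {ρ : V →ₗ[D] Ω[D⁄R]}

/-- For `x` flat the base-changed model computes `BC x (PP / Fil n)`. -/
noncomputable def bcModel (m : Model R D V ρ) {n : ℕ} (hn : 2 ≤ n) {x : R →+* R'} (hx : x.Flat) :
    BCModel m hn x (EF.K964.rhoBC x ρ) where
  mx := EF.K964.mBC x m
  e := EF.K964.eQE x m hx n
  f_e q := EF.K964.fQ_eQ x m (one_le_two.trans hn) q
  d_e q := EF.K964.dVQ_eQ x m hn q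
  fil_e p q := EF.K964.mem_FilQ_eQ_iff x m hx n p q

variable {m : Model R D V ρ} {n : ℕ} {hn : 2 ≤ n} {x y z : R →+* R'}

/-- Existence of lifts at flat points. -/
theorem LP_nonempty (hx : x.Flat) (hy : y.Flat) (a : IsoDat ρ x y) : (LP m hn a).Nonempty :=
  LP_ne_of (bcModel m hn hx) (bcModel m hn hy) a

theorem LP_mem (hx : x.Flat) (hy : y.Flat) {a : IsoDat ρ x y} {φ : BC x (m.Q n) ≃ₐ[R'] BC y (m.Q n)}
    (hφ : φ ∈ LP m hn a) {p : ℕ} {q : BC x (m.Q n)} (hq : q ∈ FilBC m x p) : φ q ∈ FilBC m y p :=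
  LP_mem_of (bcModel m hn hx) (bcModel m hn hy) hφ hq

theorem LP_mem_iff (hx : x.Flat) (hy : y.Flat) {a : IsoDat ρ x y} {φ : BC x (m.Q n) ≃ₐ[R'] BC y (m.Q n)}
    (hφ : φ ∈ LP m hn a) {p : ℕ} {q : BC x (m.Q n)} : φ q ∈ FilBC m y p ↔ q ∈ FilBC m x p := by
  refine ⟨fun h => ?_, LP_mem hx hy hφ⟩
  have := LP_mem hy hx (LP_symm hφ) h
  rwa [AlgEquiv.symm_apply_apply] at this

theorem LP_sub_mem_two (hx : x.Flat) (hy : y.Flat) {a : IsoDat ρ x y}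
    {φ ψ : BC x (m.Q n) ≃ₐ[R'] BC y (m.Q n)} (hφ : φ ∈ LP m hn a) (hψ : ψ ∈ LP m hn a) (q : BC x (m.Q n)) :
    φ q - ψ q ∈ FilBC m y 2 :=
  LP_sub_mem_two_of (bcModel m hn hx) (bcModel m hn hy) hφ hψ q

theorem LP_sub_mem (hx : x.Flat) (hy : y.Flat) {a : IsoDat ρ x y}
    {φ ψ : BC x (m.Q n) ≃ₐ[R'] BC y (m.Q n)} (hφ : φ ∈ LP m hn a) (hψ : ψ ∈ LP m hn a) {p : ℕ}
    {q : BC x (m.Q n)} (hq : q ∈ FilBC m x p) : φ q - ψ q ∈ FilBC m y (p + 1) :=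
  LP_sub_mem_of (bcModel m hn hx) (bcModel m hn hy) hφ hψ hq

/-- The kernel of `BC x P → BC x D` is `FilBC 1`, for `x` flat. -/
theorem fB_eq_zero_iff (hx : x.Flat) (hn : 2 ≤ n) {q : BC x (m.Q n)} : fB m hn x q = 0 ↔ q ∈ FilBC m x 1 := by
  rw [← (bcModel m hn hx).fil_e, ← Model.fQ_eq_zero_iff _ (one_le_two.trans hn), (bcModel m hn hx).f_e]

/-- `FilBC 2` in terms of `D` and `V`, for `x` flat. -/
theorem mem_FilBC_two_iff (hx : x.Flat) (hn : 2 ≤ n) {q : BC x (m.Q n)} :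
    q ∈ FilBC m x 2 ↔ fB m hn x q = 0 ∧ dB m hn x q = 0 := by
  rw [← (bcModel m hn hx).fil_e, Model.mem_FilQ_two_iff _ hn, (bcModel m hn hx).f_e, (bcModel m hn hx).d_e]

end

end Groth.Agent.ResProp.EF.K863
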