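import Groth.Agent.ResProp.EF.K863.Hom
import Mathlib.RingTheory.Ideal.Quotient.Operations
import Mathlib.RingTheory.Derivation.Basic
import Mathlib.Algebra.Module.Torsion.Basic

/-!
# Maps of models modulo the filtration (G3, 3.2)
-/

set_option autoImplicit false

open MvPolynomial

namespace Groth.Agent.ResProp.EF.K863

section quot

variable {R : Type*} [CommRing R]
  {D : Type*} [CommRing D] [Algebra R D] {V : Type*} [AddCommGroup V] [Module D V] {ρ : V →ₗ[D] Ω[D⁄R]}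
  {D' : Type*} [CommRing D'] [Algebra R D'] {V' : Type*} [AddCommGroup V'] [Module D' V']
  {ρ' : V' →ₗ[D'] Ω[D'⁄R]}
  {D'' : Type*} [CommRing D''] [Algebra R D''] {V'' : Type*} [AddCommGroup V''] [Module D'' V'']
  {ρ'' : V'' →ₗ[D''] Ω[D''⁄R]}
  {m : Model R D V ρ} {m' : Model R D' V' ρ'} {m'' : Model R D'' V'' ρ''}

/-- The quotient of the polynomial ring of a model by `Fil n`. -/
abbrev Model.Q (m : Model R D V ρ) (n : ℕ) : Type _ := m.PP ⧸ m.Fil n

/-- The filtration on `m.Q n`. -/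
noncomputable def Model.FilQ (m : Model R D V ρ) (n p : ℕ) : Ideal (m.Q n) :=
  (m.Fil p).map (Ideal.Quotient.mk (m.Fil n))

theorem Model.mk_mem_FilQ {n p : ℕ} (hp : p ≤ n) {z : m.PP} :
    Ideal.Quotient.mk (m.Fil n) z ∈ m.FilQ n p ↔ z ∈ m.Fil p := by
  rw [Model.FilQ, Ideal.mem_map_iff_of_surjective _ Ideal.Quotient.mk_surjective]
  constructor
  · rintro ⟨w, hw, h⟩
    rw [Ideal.Quotient.mk_eq_mk_iff_sub_mem] at h
    have := (m.Fil p).sub_mem hw (m.Fil_antitone hp h)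
    rwa [sub_sub_cancel] at this
  · intro h; exact ⟨z, h, rfl⟩

theorem Model.mem_FilQ {n p : ℕ} {x : m.Q n} :
    x ∈ m.FilQ n p ↔ ∃ z ∈ m.Fil p, Ideal.Quotient.mk (m.Fil n) z = x := by
  rw [Model.FilQ, Ideal.mem_map_iff_of_surjective _ Ideal.Quotient.mk_surjective]

theorem Model.FilQ_antitone (n : ℕ) : Antitone (m.FilQ n) := fun _ _ h => Ideal.map_mono (m.Fil_antitone h)

theorem Model.FilQ_mul_le (n p q : ℕ) : m.FilQ n p * m.FilQ n q ≤ m.FilQ n (p + q) := by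
  rw [Model.FilQ, Model.FilQ, ← Ideal.map_mul]
  exact Ideal.map_mono (m.Fil_mul_le p q)

@[simp] theorem Model.FilQ_zero (n : ℕ) : m.FilQ n 0 = ⊤ := by
  rw [Model.FilQ, Model.Fil_zero, Ideal.map_top]

theorem Model.FilQ_self {n p : ℕ} (h : n ≤ p) : m.FilQ n p = ⊥ := by
  rw [Model.FilQ, Ideal.map_eq_bot_iff_le_ker, Ideal.mk_ker]
  exact m.Fil_antitone h

/-- The map induced by a map of models. -/
noncomputable def IsModelHom.mapQ {h : DatumHom ρ ρ'} {φ : m.PP →ₐ[R] m'.PP} (hφ : IsModelHom h φ) (n : ℕ) :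
    m.Q n →ₐ[R] m'.Q n :=
  Ideal.quotientMapₐ (m'.Fil n) φ (hφ.map_Fil_le n)

@[simp] theorem IsModelHom.mapQ_mk {h : DatumHom ρ ρ'} {φ : m.PP →ₐ[R] m'.PP} (hφ : IsModelHom h φ) (n : ℕ)
    (z : m.PP) : hφ.mapQ n (Ideal.Quotient.mk _ z) = Ideal.Quotient.mk _ (φ z) := rfl

theorem IsModelHom.mapQ_mem {h : DatumHom ρ ρ'} {φ : m.PP →ₐ[R] m'.PP} (hφ : IsModelHom h φ) {n p : ℕ}
    {x : m.Q n} (hx : x ∈ m.FilQ n p) : hφ.mapQ n x ∈ m'.FilQ n p := by
  obtain ⟨z, hz, rfl⟩ := Model.mem_FilQ.1 hx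
  exact Model.mem_FilQ.2 ⟨φ z, hφ.map_Fil hz, rfl⟩

/-- (3) for the quotients: two maps over the same map of data. -/
theorem IsModelHom.mapQ_sub_mem {h : DatumHom ρ ρ'} {φ ψ : m.PP →ₐ[R] m'.PP} (hφ : IsModelHom h φ)
    (hψ : IsModelHom h ψ) (n p : ℕ) {x : m.Q n} (hx : x ∈ m.FilQ n p) :
    hφ.mapQ n x - hψ.mapQ n x ∈ m'.FilQ n (p + 1) := by
  obtain ⟨z, hz, rfl⟩ := Model.mem_FilQ.1 hx
  exact Model.mem_FilQ.2 ⟨φ z - ψ z, hφ.sub_mem_Fil_succ hψ p hz, by simp⟩

/-- A map of models over the identity is bijective modulo `Fil n`. -/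
theorem IsModelHom.bijective_mapQ_id {θ : m.PP →ₐ[R] m.PP} (hθ : IsModelHom (DatumHom.id ρ) θ) (n : ℕ) :
    Function.Bijective (hθ.mapQ n) := by
  have hsub : ∀ (p : ℕ) (z : m.PP), z ∈ m.Fil p → θ z - z ∈ m.Fil (p + 1) := fun p z hz =>
    hθ.sub_mem_Fil_succ (IsModelHom.id m) p hz
  constructor
  · rw [injective_iff_map_eq_zero]
    intro x hx
    obtain ⟨z, rfl⟩ := Ideal.Quotient.mk_surjective x
    rw [IsModelHom.mapQ_mk, Ideal.Quotient.eq_zero_iff_mem] at hx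
    rw [Ideal.Quotient.eq_zero_iff_mem]
    have : ∀ p, p ≤ n → z ∈ m.Fil p := by
      intro p
      induction p with
      | zero => intro _; simp
      | succ p ih =>
        intro hp
        have h1 := hsub p z (ih (by omega))
        have h2 := m.Fil_antitone hp hx
        have := (m.Fil (p + 1)).sub_mem h2 h1
        rwa [sub_sub_cancel] at this
    exact this n le_rfl
  · intro x
    obtain ⟨z, rfl⟩ := Ideal.Quotient.mk_surjective x
    have : ∀ (k p : ℕ), p + k = n → ∀ z ∈ m.Fil p, ∃ w, θ w - z ∈ m.Fil n := by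
      intro k
      induction k with
      | zero =>
        intro p hp z hz
        have : p = n := by omega
        subst this
        exact ⟨0, by rw [map_zero, zero_sub]; exact (m.Fil p).neg_mem hz⟩
      | succ k ih =>
        intro p hp z hz
        obtain ⟨w, hw⟩ := ih (p + 1) (by omega) (z - θ z) (by
          have := (m.Fil (p + 1)).neg_mem (hsub p z hz)
          rwa [neg_sub] at this)
        refine ⟨z + w, ?_⟩
        have e : θ (z + w) - z = θ w - (z - θ z) := by rw [map_add]; ring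
        rw [e]; exact hw
    obtain ⟨w, hw⟩ := this n 0 (by omega) z (by simp)
    exact ⟨Ideal.Quotient.mk _ w, by
      rw [IsModelHom.mapQ_mk, Ideal.Quotient.mk_eq_mk_iff_sub_mem]; exact hw⟩

/-- Mutually inverse maps of data. -/
structure DatumHom.IsInv (h : DatumHom ρ ρ') (g : DatumHom ρ' ρ) : Prop where
  left : g.comp h = DatumHom.id ρ
  right : h.comp g = DatumHom.id ρ'

/-- (4) A map of models over an isomorphism of data is bijective modulo `Fil n`. -/
theorem IsModelHom.bijective_mapQ {h : DatumHom ρ ρ'} {g : DatumHom ρ' ρ} (hg : h.IsInv g)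
    {φ : m.PP →ₐ[R] m'.PP} (hφ : IsModelHom h φ) (n : ℕ) : Function.Bijective (hφ.mapQ n) := by
  obtain ⟨ψ, hψ⟩ := exists_modelHom m' m g
  have h1 : IsModelHom (DatumHom.id ρ) (ψ.comp φ) := hg.left ▸ hψ.comp hφ
  have h2 : IsModelHom (DatumHom.id ρ') (φ.comp ψ) := hg.right ▸ hφ.comp hψ
  have b1 := h1.bijective_mapQ_id n
  have b2 := h2.bijective_mapQ_id n
  have e1 : ∀ x, h1.mapQ n x = hψ.mapQ n (hφ.mapQ n x) := by
    intro x; obtain ⟨z, rfl⟩ := Ideal.Quotient.mk_surjective x; rfl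
  have e2 : ∀ x, h2.mapQ n x = hφ.mapQ n (hψ.mapQ n x) := by
    intro x; obtain ⟨z, rfl⟩ := Ideal.Quotient.mk_surjective x; rfl
  refine ⟨fun x y hxy => b1.1 (by rw [e1, e1, hxy]), fun y => ?_⟩
  obtain ⟨x, hx⟩ := b2.2 y
  exact ⟨hψ.mapQ n x, by rw [← e2, hx]⟩

/-- The isomorphism of (4). -/
noncomputable def IsModelHom.equivQ {h : DatumHom ρ ρ'} {g : DatumHom ρ' ρ} (hg : h.IsInv g)
    {φ : m.PP →ₐ[R] m'.PP} (hφ : IsModelHom h φ) (n : ℕ) : m.Q n ≃ₐ[R] m'.Q n :=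
  AlgEquiv.ofBijective (hφ.mapQ n) (hφ.bijective_mapQ hg n)

@[simp] theorem IsModelHom.equivQ_apply {h : DatumHom ρ ρ'} {g : DatumHom ρ' ρ} (hg : h.IsInv g)
    {φ : m.PP →ₐ[R] m'.PP} (hφ : IsModelHom h φ) (n : ℕ) (x : m.Q n) :
    hφ.equivQ hg n x = hφ.mapQ n x := rfl

/-- The isomorphism of (4) is strict for the filtrations. -/
theorem IsModelHom.mapQ_mem_iff {h : DatumHom ρ ρ'} {g : DatumHom ρ' ρ} (hg : h.IsInv g)
    {φ : m.PP →ₐ[R] m'.PP} (hφ : IsModelHom h φ) {n p : ℕ} (hp : p ≤ n) {x : m.Q n} :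
    hφ.mapQ n x ∈ m'.FilQ n p ↔ x ∈ m.FilQ n p := by
  refine ⟨fun hx => ?_, hφ.mapQ_mem⟩
  obtain ⟨z, rfl⟩ := Ideal.Quotient.mk_surjective x
  rw [IsModelHom.mapQ_mk, Model.mk_mem_FilQ hp] at hx
  rw [Model.mk_mem_FilQ hp]
  have h0 : hφ.mapQ p (Ideal.Quotient.mk _ z) = 0 := by
    rw [IsModelHom.mapQ_mk, Ideal.Quotient.eq_zero_iff_mem]; exact hx
  rw [← Ideal.Quotient.eq_zero_iff_mem]
  exact (injective_iff_map_eq_zero (hφ.mapQ p)).1 (hφ.bijective_mapQ hg p).1 _ h0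

/-! ### The graded pieces -/

namespace Model

/-- The graded piece `gr n = Fil n / Fil (n + 1)`. -/
abbrev gr (m : Model R D V ρ) (n : ℕ) : Type _ :=
  (m.Fil n) ⧸ (Submodule.comap (Submodule.subtype (m.Fil n)) (m.Fil (n + 1)))

/-- The class in `gr n` of an element of `Fil n`. -/
noncomputable def toGr (m : Model R D V ρ) (n : ℕ) : m.Fil n →ₗ[m.PP] m.gr n := Submodule.mkQ _

theorem toGr_surjective (n : ℕ) : Function.Surjective (m.toGr n) := Submodule.mkQ_surjective _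

theorem toGr_eq_zero_iff {n : ℕ} (z : m.Fil n) : m.toGr n z = 0 ↔ (z : m.PP) ∈ m.Fil (n + 1) := by
  rw [toGr, Submodule.mkQ_apply, Submodule.Quotient.mk_eq_zero]; rfl

theorem toGr_eq_iff {n : ℕ} (z w : m.Fil n) :
    m.toGr n z = m.toGr n w ↔ (z : m.PP) - w ∈ m.Fil (n + 1) := by
  rw [← sub_eq_zero, ← map_sub, toGr_eq_zero_iff]; rfl

theorem J_smul_gr (n : ℕ) : Module.IsTorsionBySet m.PP (m.gr n) (m.J : Set m.PP) := by
  intro x a
  obtain ⟨z, rfl⟩ := m.toGr_surjective n x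
  rw [← map_smul, toGr_eq_zero_iff]
  have h1 : (a : m.PP) ∈ m.Fil 1 := by rw [Fil_one]; exact a.2
  have := m.mul_mem_Fil h1 z.2
  rwa [add_comm] at this

/-- `D` is the quotient of the polynomial ring by `J`. -/
noncomputable def quotEquiv (m : Model R D V ρ) : (m.PP ⧸ m.J) ≃+* D :=
  RingHom.quotientKerEquivOfSurjective m.surj

noncomputable instance grModule (m : Model R D V ρ) (n : ℕ) : Module D (m.gr n) :=
  letI : Module (m.PP ⧸ m.J) (m.gr n) := (m.J_smul_gr n).module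
  Module.compHom _ (m.quotEquiv.symm.toRingHom)

/-- The `D`-module structure on the graded pieces. -/
theorem f_smul_gr {n : ℕ} (a : m.PP) (x : m.gr n) : m.f a • x = a • x := by
  letI : Module (m.PP ⧸ m.J) (m.gr n) := (m.J_smul_gr n).module
  have h1 : m.quotEquiv.symm (m.f a) = Ideal.Quotient.mk m.J a := by
    rw [RingEquiv.symm_apply_eq]; rfl
  change m.quotEquiv.symm (m.f a) • x = a • x
  rw [h1]
  exact Module.IsTorsionBySet.mk_smul (m.J_smul_gr n) a x

theorem f_smul_toGr {n : ℕ} (a : m.PP) (z : m.Fil n) : m.f a • m.toGr n z = m.toGr n (a • z) := by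
  rw [f_smul_gr, map_smul]

end Model

/-- The map on graded pieces. -/
noncomputable def IsModelHom.grMap {h : DatumHom ρ ρ'} {φ : m.PP →ₐ[R] m'.PP} (hφ : IsModelHom h φ) (n : ℕ) :
    m.gr n →+ m'.gr n :=
  QuotientAddGroup.map _ _
    ({ toFun := fun z => ⟨φ z, hφ.map_Fil z.2⟩
       map_zero' := Subtype.ext (map_zero φ)
       map_add' := fun a b => Subtype.ext (map_add φ (a : m.PP) b) } : m.Fil n →+ m'.Fil n)
    (fun _ hz => hφ.map_Fil hz)

theorem IsModelHom.grMap_toGr {h : DatumHom ρ ρ'} {φ : m.PP →ₐ[R] m'.PP} (hφ : IsModelHom h φ) (n : ℕ)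
    (z : m.Fil n) : hφ.grMap n (m.toGr n z) = m'.toGr n ⟨φ z, hφ.map_Fil z.2⟩ := rfl

theorem IsModelHom.grMap_smul {h : DatumHom ρ ρ'} {φ : m.PP →ₐ[R] m'.PP} (hφ : IsModelHom h φ) (n : ℕ)
    (d : D) (x : m.gr n) : hφ.grMap n (d • x) = h.η d • hφ.grMap n x := by
  obtain ⟨a, rfl⟩ := m.surj d
  obtain ⟨z, rfl⟩ := m.toGr_surjective n x
  rw [Model.f_smul_toGr, hφ.grMap_toGr, hφ.grMap_toGr, ← hφ.f_eq, Model.f_smul_toGr]
  congr 1
  exact Subtype.ext (map_mul φ a z)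

/-- (3c): the map on `gr` only depends on the map of data. -/
theorem IsModelHom.grMap_eq {h : DatumHom ρ ρ'} {φ ψ : m.PP →ₐ[R] m'.PP} (hφ : IsModelHom h φ)
    (hψ : IsModelHom h ψ) (n : ℕ) : hφ.grMap n = hψ.grMap n := by
  ext x
  obtain ⟨z, rfl⟩ := m.toGr_surjective n x
  rw [hφ.grMap_toGr, hψ.grMap_toGr, Model.toGr_eq_iff]
  exact hφ.sub_mem_Fil_succ hψ n z.2

/-! ### Pairs of maps which agree modulo `Fil (n + 1)` -/

/-- (5) Two maps over the same map of data which agree modulo `Fil (n + 1)` differ modulo `Fil (n + 2)` by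
an `η`-semilinear map `V → gr (n + 1)`. -/
theorem IsModelHom.exists_diff {h : DatumHom ρ ρ'} {φ ψ : m.PP →ₐ[R] m'.PP} (hφ : IsModelHom h φ)
    (hψ : IsModelHom h ψ) {n : ℕ} (hn : ∀ i, φ (X i) - ψ (X i) ∈ m'.Fil (n + 1)) :
    ∃ lam : V →+ m'.gr (n + 1), (∀ (d : D) (v : V), lam (d • v) = h.η d • lam v) ∧
      ∀ z : m.PP, lam (m.dV z) = m'.toGr (n + 1) ⟨φ z - ψ z, (taylor φ ψ _ hn z).1⟩ := by
  set y : Fin m.M → m'.gr (n + 1) := fun i => m'.toGr (n + 1) ⟨φ (X i) - ψ (X i), hn i⟩ with hy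
  let lam : V →+ m'.gr (n + 1) :=
    { toFun := fun v => ∑ i, h.η (m.b.repr v i) • y i
      map_zero' := by simp
      map_add' := fun v w => by simp [add_smul, Finset.sum_add_distrib] }
  have hlam : ∀ v, lam v = ∑ i, h.η (m.b.repr v i) • y i := fun _ => rfl
  have hsm : ∀ (d : D) (v : V), lam (d • v) = h.η d • lam v := by
    intro d v
    rw [hlam, hlam, Finset.smul_sum]
    refine Finset.sum_congr rfl fun i _ => ?_
    rw [map_smul, Finsupp.smul_apply, smul_eq_mul, map_mul, mul_smul]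
  have hb : ∀ i, lam (m.b i) = y i := by
    classical
    intro i
    rw [hlam, Finset.sum_eq_single i]
    · rw [m.b.repr_self, Finsupp.single_eq_same, map_one, one_smul]
    · intro j _ hj
      rw [m.b.repr_self, Finsupp.single_eq_of_ne hj, map_zero, zero_smul]
    · simp
  refine ⟨lam, hsm, fun z => ?_⟩
  have hall : ∀ z, φ z - ψ z ∈ m'.Fil (n + 1) := fun z => (taylor φ ψ _ hn z).1
  have main : ∀ (z : m.PP) (hz : φ z - ψ z ∈ m'.Fil (n + 1)), lam (m.dV z) = m'.toGr (n + 1) ⟨φ z - ψ z, hz⟩ := by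
    intro z
    induction z using MvPolynomial.induction_on with
    | C a =>
      intro hz
      rw [Model.dV_C, map_zero, eq_comm, Model.toGr_eq_zero_iff]
      simp only [← MvPolynomial.algebraMap_eq, AlgHom.commutes, sub_self]
      exact Submodule.zero_mem _
    | add p q hp hq =>
      intro hz
      rw [map_add, map_add, hp (hall p), hq (hall q), ← map_add]
      congr 1
      refine Subtype.ext ?_
      change φ p - ψ p + (φ q - ψ q) = φ (p + q) - ψ (p + q)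
      rw [map_add, map_add]; ring
    | mul_X p j hp =>
      intro hz
      rw [Model.dV_mul, map_add, hsm, hsm, hp (hall p), Model.dV_X, hb, hy]
      simp only
      rw [← hφ.f_eq (X j), ← hφ.f_eq p, Model.f_smul_toGr, Model.f_smul_toGr, ← map_add, Model.toGr_eq_iff]
      change φ p * (φ (X j) - ψ (X j)) + φ (X j) * (φ p - ψ p) - (φ (p * X j) - ψ (p * X j)) ∈ _
      have e : φ p * (φ (X j) - ψ (X j)) + φ (X j) * (φ p - ψ p) - (φ (p * X j) - ψ (p * X j)) =
          (φ p - ψ p) * (φ (X j) - ψ (X j)) := by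
        rw [map_mul, map_mul]; ring
      rw [e]
      exact m'.Fil_antitone (by omega) (m'.mul_mem_Fil (hall p) (hn j))
  exact main z _

/-- (5'), converse: changing the images of the variables by elements of `Fil (n + 1)`, `n ≥ 1`. -/
theorem IsModelHom.exists_modify {h : DatumHom ρ ρ'} {φ : m.PP →ₐ[R] m'.PP} (hφ : IsModelHom h φ)
    (y : Fin m.M → m'.PP) (hy : ∀ i, y i ∈ m'.Fil 2) :
    ∃ ψ : m.PP →ₐ[R] m'.PP, IsModelHom h ψ ∧ ∀ i, ψ (X i) = φ (X i) + y i := by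
  refine ⟨MvPolynomial.aeval fun i => φ (X i) + y i, isModelHom_of_X h _ (fun i => ?_) fun i => ?_, fun i => by
    rw [aeval_X]⟩
  · have := hy i
    rw [Model.Fil_two] at this
    rw [aeval_X, map_add, this.1, add_zero, hφ.f_eq]
  · have := hy i
    rw [Model.Fil_two] at this
    rw [aeval_X, map_add, this.2, add_zero, hφ.dV_eq, Model.dV_X]

end quot

end Groth.Agent.ResProp.EF.K863
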