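import Groth.Agent.ResProp.EF.K863.LP
import Groth.Agent.ResProp.EF.K964.DatumBC

/-!
# The groupoid of isomorphisms of the base-changed data `(D, V, ρ)`

`IsoDat ρ x y`, `datGpd m : PGpd R`, `datAlg : EqAlg (datGpd m) D`, `datMod : EqMod (datGpd m) V` and the lifts
`LP m hn a` of an arrow to `BC x (PP / Fil n)`.
-/

set_option autoImplicit false

universe u

open MvPolynomial

namespace Groth.Agent.ResProp.EF.K863

open K980 _root_.Groth.Agent.ResProp.EF.K964

/-- Compatibility of a map with the differentials may be tested on the generators. -/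
theorem compat_of_gen {R₁ R₂ : Type*} [CommRing R₁] [CommRing R₂] {D₁ : Type*} [CommRing D₁] [Algebra R₁ D₁]
    {V₁ : Type*} [AddCommGroup V₁] [Module D₁ V₁] {ρ₁ : V₁ →ₗ[D₁] Ω[D₁⁄R₁]}
    {D₂ : Type*} [CommRing D₂] [Algebra R₂ D₂] {V₂ : Type*} [AddCommGroup V₂] [Module D₂ V₂]
    {ρ₂ : V₂ →ₗ[D₂] Ω[D₂⁄R₂]} (m : Model R₁ D₁ V₁ ρ₁) (σ : R₁ →+* R₂) (η : D₁ →+* D₂)
    (hη : ∀ r, η (algebraMap R₁ D₁ r) = algebraMap R₂ D₂ (σ r)) (ηV : V₁ →+ V₂)
    (hV : ∀ d v, ηV (d • v) = η d • ηV v)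
    (hgen : ∀ i, ρ₂ (ηV (m.b i)) = KaehlerDifferential.D R₂ D₂ (η (m.f (X i))))
    (v : V₁) (d : D₁) (h : ρ₁ v = KaehlerDifferential.D R₁ D₁ d) :
    ρ₂ (ηV v) = KaehlerDifferential.D R₂ D₂ (η d) := by
  have key : ∀ z : m.PP, ρ₂ (ηV (m.dV z)) = KaehlerDifferential.D R₂ D₂ (η (m.f z)) := by
    intro z
    induction z using MvPolynomial.induction_on with
    | C a =>
      rw [Model.dV_C, map_zero, map_zero, ← MvPolynomial.algebraMap_eq, AlgHom.commutes, hη,
        Derivation.map_algebraMap]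
    | add p q hp hq => rw [map_add, map_add, map_add, map_add, map_add, map_add, hp, hq]
    | mul_X p j hp =>
      rw [Model.dV_mul, map_add, hV, hV, map_add, map_smul, map_smul, hp, Model.dV_X, hgen, map_mul, map_mul,
        Derivation.leibniz]
  obtain ⟨z, rfl, rfl⟩ := m.exists_of_rho d v h
  exact key z

section IsoDat

variable {R : Type*} [CommRing R]
  {D : Type*} [CommRing D] [Algebra R D] {V : Type*} [AddCommGroup V] [Module D V] [Module R V]
  [IsScalarTower R D V]

/-- `tr` is semilinear over `tr` on `D`. -/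
theorem tr_smul {R' R'' : Type*} [CommRing R'] [CommRing R''] {x : R →+* R'} {x' : R →+* R''} {f : R' →+* R''}
    (hx : f.comp x = x') (d : BC x D) (v : BC x V) : BC.tr f hx (d • v) = BC.tr f hx d • BC.tr f hx v := by
  induction d using BC.ind with
  | h0 => rw [zero_smul, map_zero, map_zero, zero_smul]
  | h2 a b ha hb => rw [add_smul, map_add, map_add, add_smul, ha, hb]
  | h1 r a =>
    rw [smul_assoc, LinearMap.map_smulₛₗ, LinearMap.map_smulₛₗ, smul_assoc]
    congr 1
    induction v using BC.ind with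
    | h0 => rw [smul_zero, map_zero, smul_zero]
    | h2 v w hv hw => rw [smul_add, map_add, map_add, smul_add, hv, hw]
    | h1 s v =>
      rw [smul_comm (bc x a) s (bc x v), LinearMap.map_smulₛₗ, LinearMap.map_smulₛₗ, ← BC.bc_smul, BC.tr_bc, BC.tr_bc,
        BC.tr_bc, BC.bc_smul, smul_comm (bc x' a) (f s) (bc x' v)]

variable {ρ : V →ₗ[D] Ω[D⁄R]}

/-- `tr` is compatible with the differentials. -/
theorem tr_compat (m : Model R D V ρ) {R' R'' : Type*} [CommRing R'] [CommRing R''] {x : R →+* R'}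
    {x' : R →+* R''} {f : R' →+* R''} (hx : f.comp x = x') (v : BC x V) (d : BC x D)
    (h : rhoBC x ρ v = KaehlerDifferential.D R' (BC x D) d) :
    rhoBC x' ρ (BC.tr f hx v) = KaehlerDifferential.D R'' (BC x' D) (BC.tr f hx d) := by
  refine compat_of_gen (mBC x m) f (BC.trHom f hx) (fun r => ?_) (BC.tr f hx : BC x V →ₛₗ[f] BC x' V).toAddMonoidHom
    (fun d v => tr_smul hx d v) (fun i => ?_) v d h
  · change BC.tr f hx (algebraMap R' (BC x D) r) = _
    rw [Algebra.algebraMap_eq_smul_one, LinearMap.map_smulₛₗ, BC.tr_one, Algebra.algebraMap_eq_smul_one]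
  · change rhoBC x' ρ (BC.tr f hx (basisBC x m.b i)) = KaehlerDifferential.D R'' (BC x' D)
      (BC.tr f hx (MvPolynomial.aeval (R := R') (fun i => bc x (m.f (X i))) (X i)))
    rw [basisBC_apply, BC.tr_bc, aeval_X, BC.tr_bc, rhoBC_bc, m.hb, kmap_D]

/-- Isomorphisms between the base changes of the datum `(D, V, ρ)` along `x` and `y`. -/
structure IsoDat (ρ : V →ₗ[D] Ω[D⁄R]) {R' : Type*} [CommRing R'] (x y : R →+* R') where
  /-- the isomorphism of algebras -/
  eta : BC x D ≃ₐ[R'] BC y D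
  /-- the isomorphism of modules -/
  etaV : BC x V ≃ₗ[R'] BC y V
  map_smul : ∀ (d : BC x D) (v : BC x V), etaV (d • v) = eta d • etaV v
  compat : ∀ (v : BC x V) (d : BC x D), rhoBC x ρ v = KaehlerDifferential.D R' (BC x D) d ↔
    rhoBC y ρ (etaV v) = KaehlerDifferential.D R' (BC y D) (eta d)

namespace IsoDat

variable {R' : Type*} [CommRing R'] {x y z t : R →+* R'}

@[ext] theorem ext {a b : IsoDat ρ x y} (h1 : a.eta = b.eta) (h2 : a.etaV = b.etaV) : a = b := by
  cases a; cases b; cases h1; cases h2; rfl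

/-- The identity. -/
noncomputable def refl (ρ : V →ₗ[D] Ω[D⁄R]) (x : R →+* R') : IsoDat ρ x x where
  eta := AlgEquiv.refl
  etaV := LinearEquiv.refl R' _
  map_smul _ _ := rfl
  compat _ _ := Iff.rfl

/-- Composition in diagrammatic order. -/
noncomputable def trans (a : IsoDat ρ x y) (b : IsoDat ρ y z) : IsoDat ρ x z where
  eta := a.eta.trans b.eta
  etaV := a.etaV.trans b.etaV
  map_smul d v := by
    rw [LinearEquiv.trans_apply, LinearEquiv.trans_apply, AlgEquiv.trans_apply, a.map_smul, b.map_smul]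
  compat v d := by
    rw [LinearEquiv.trans_apply, AlgEquiv.trans_apply, a.compat, b.compat]

/-- The inverse. -/
noncomputable def symm (a : IsoDat ρ x y) : IsoDat ρ y x where
  eta := a.eta.symm
  etaV := a.etaV.symm
  map_smul d v := by
    obtain ⟨d, rfl⟩ := a.eta.surjective d
    obtain ⟨v, rfl⟩ := a.etaV.surjective v
    rw [← a.map_smul, LinearEquiv.symm_apply_apply, LinearEquiv.symm_apply_apply, AlgEquiv.symm_apply_apply]
  compat v d := by
    obtain ⟨d, rfl⟩ := a.eta.surjective d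
    obtain ⟨v, rfl⟩ := a.etaV.surjective v
    rw [LinearEquiv.symm_apply_apply, AlgEquiv.symm_apply_apply, a.compat]

@[simp] theorem refl_eta (x : R →+* R') : (refl ρ x).eta = AlgEquiv.refl := rfl
@[simp] theorem refl_etaV (x : R →+* R') : (refl ρ x).etaV = LinearEquiv.refl R' _ := rfl
@[simp] theorem trans_eta (a : IsoDat ρ x y) (b : IsoDat ρ y z) : (a.trans b).eta = a.eta.trans b.eta := rfl
@[simp] theorem trans_etaV (a : IsoDat ρ x y) (b : IsoDat ρ y z) : (a.trans b).etaV = a.etaV.trans b.etaV := rfl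
@[simp] theorem symm_eta (a : IsoDat ρ x y) : a.symm.eta = a.eta.symm := rfl
@[simp] theorem symm_etaV (a : IsoDat ρ x y) : a.symm.etaV = a.etaV.symm := rfl

variable {R'' : Type*} [CommRing R''] {x' y' z' : R →+* R''} {f : R' →+* R''}

theorem pull_smul (hx : f.comp x = x') (hy : f.comp y = y') (a : IsoDat ρ x y) (d : BC x' D) (v : BC x' V) :
    BC.pullE f hx hy a.etaV (d • v) = pullA f hx hy a.eta d • BC.pullE f hx hy a.etaV v := by
  induction d using BC.ind with
  | h0 => rw [zero_smul, map_zero, map_zero, zero_smul]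
  | h2 c e hc he => rw [add_smul, map_add, map_add, add_smul, hc, he]
  | h1 r c =>
    have e : pullA f hx hy a.eta (r • bc x' c) = r • pullA f hx hy a.eta (bc x' c) :=
      (pullA f hx hy a.eta).toLinearEquiv.map_smul r (bc x' c)
    rw [smul_assoc, (BC.pullE f hx hy a.etaV).map_smul r (bc x' c • v), e, smul_assoc]
    congr 1
    induction v using BC.ind with
    | h0 => rw [smul_zero, map_zero, smul_zero]
    | h2 v w hv hw => rw [smul_add, map_add, map_add, smul_add, hv, hw]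
    | h1 s v =>
      rw [smul_comm (bc x' c) s (bc x' v), (BC.pullE f hx hy a.etaV).map_smul s (bc x' c • bc x' v),
        (BC.pullE f hx hy a.etaV).map_smul s (bc x' v), ← BC.bc_smul, BC.pullE_bc, BC.pullE_bc,
        pullA_bc, BC.bc_smul, a.map_smul, tr_smul, smul_comm (BC.tr f hy (a.eta (bc x c))) s]

theorem pull_compat_aux (m : Model R D V ρ) (hx : f.comp x = x') (hy : f.comp y = y') (a : IsoDat ρ x y)
    (v : BC x' V) (d : BC x' D) (h : rhoBC x' ρ v = KaehlerDifferential.D R'' (BC x' D) d) :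
    rhoBC y' ρ (BC.pullE f hx hy a.etaV v) = KaehlerDifferential.D R'' (BC y' D) (pullA f hx hy a.eta d) := by
  refine compat_of_gen (mBC x' m) (RingHom.id R'') (pullA f hx hy a.eta).toAlgHom.toRingHom (fun r => ?_)
    (BC.pullE f hx hy a.etaV).toLinearMap.toAddMonoidHom (fun d v => pull_smul hx hy a d v) (fun i => ?_) v d h
  · exact (pullA f hx hy a.eta).commutes r
  · change rhoBC y' ρ (BC.pullE f hx hy a.etaV (basisBC x' m.b i)) = KaehlerDifferential.D R'' (BC y' D)
      (pullA f hx hy a.eta (MvPolynomial.aeval (R := R'') (fun i => bc x' (m.f (X i))) (X i)))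
    rw [basisBC_apply, aeval_X, BC.pullE_bc, pullA_bc]
    refine tr_compat m hy _ _ ((a.compat _ _).1 ?_)
    rw [rhoBC_bc, m.hb, kmap_D]

/-- Pull-back. -/
noncomputable def pull (m : Model R D V ρ) (f : R' →+* R'') (hx : f.comp x = x') (hy : f.comp y = y')
    (a : IsoDat ρ x y) : IsoDat ρ x' y' where
  eta := pullA f hx hy a.eta
  etaV := BC.pullE f hx hy a.etaV
  map_smul := pull_smul hx hy a
  compat v d := by
    refine ⟨pull_compat_aux m hx hy a v d, fun h => ?_⟩
    have h' := pull_compat_aux m hy hx a.symm _ _ h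
    rw [symm_eta, symm_etaV, ← pullA_symm, ← BC.pullE_symm, AlgEquiv.symm_apply_apply,
      LinearEquiv.symm_apply_apply] at h'
    exact h'

@[simp] theorem pull_eta (m : Model R D V ρ) (hx : f.comp x = x') (hy : f.comp y = y') (a : IsoDat ρ x y) :
    (a.pull m f hx hy).eta = pullA f hx hy a.eta := rfl

@[simp] theorem pull_etaV (m : Model R D V ρ) (hx : f.comp x = x') (hy : f.comp y = y') (a : IsoDat ρ x y) :
    (a.pull m f hx hy).etaV = BC.pullE f hx hy a.etaV := rfl

end IsoDat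

/-! ### The lifts -/

section LP

variable (m : Model R D V ρ) {n : ℕ} (hn : 2 ≤ n) {R' : Type*} [CommRing R'] {x y z : R →+* R'}

/-- The lifts of an arrow to `BC x (PP / Fil n)`. -/
def LP (a : IsoDat ρ x y) : Set (BC x (m.Q n) ≃ₐ[R'] BC y (m.Q n)) := {φ | IsLP m hn a.eta a.etaV φ}

variable {m hn}

theorem LP_refl (x : R →+* R') : AlgEquiv.refl ∈ LP m hn (IsoDat.refl ρ x) := IsLP.refl x

theorem LP_trans {a : IsoDat ρ x y} {b : IsoDat ρ y z} {φ : BC x (m.Q n) ≃ₐ[R'] BC y (m.Q n)}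
    {ψ : BC y (m.Q n) ≃ₐ[R'] BC z (m.Q n)} (hφ : φ ∈ LP m hn a) (hψ : ψ ∈ LP m hn b) :
    φ.trans ψ ∈ LP m hn (a.trans b) := IsLP.trans hφ hψ

theorem LP_symm {a : IsoDat ρ x y} {φ : BC x (m.Q n) ≃ₐ[R'] BC y (m.Q n)} (hφ : φ ∈ LP m hn a) :
    φ.symm ∈ LP m hn a.symm := IsLP.symm hφ

theorem LP_pull {R'' : Type*} [CommRing R''] {x' y' : R →+* R''} {f : R' →+* R''} (hx : f.comp x = x')
    (hy : f.comp y = y') {a : IsoDat ρ x y} {φ : BC x (m.Q n) ≃ₐ[R'] BC y (m.Q n)} (hφ : φ ∈ LP m hn a) :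
    pullA f hx hy φ ∈ LP m hn (a.pull m f hx hy) := IsLP.pull hx hy hφ

section flat

variable (Mx : BCModel m hn x (rhoBC x ρ)) (My : BCModel m hn y (rhoBC y ρ))

include Mx My

theorem LP_ne_of (a : IsoDat ρ x y) : (LP m hn a).Nonempty :=
  exists_isLP Mx My a.eta a.etaV a.map_smul (fun v d => (a.compat v d).1) a.symm.map_smul
    (fun v d => (a.symm.compat v d).1)

theorem LP_mem_of {a : IsoDat ρ x y} {φ : BC x (m.Q n) ≃ₐ[R'] BC y (m.Q n)} (hφ : φ ∈ LP m hn a) {p : ℕ}
    {q : BC x (m.Q n)} (hq : q ∈ FilBC m x p) : φ q ∈ FilBC m y p :=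
  IsLP.mem Mx My a.map_smul (fun v d => (a.compat v d).1) hφ hq

theorem LP_sub_mem_two_of {a : IsoDat ρ x y} {φ ψ : BC x (m.Q n) ≃ₐ[R'] BC y (m.Q n)} (hφ : φ ∈ LP m hn a)
    (hψ : ψ ∈ LP m hn a) (q : BC x (m.Q n)) : φ q - ψ q ∈ FilBC m y 2 :=
  IsLP.sub_mem_two Mx My a.map_smul (fun v d => (a.compat v d).1) hφ hψ q

theorem LP_sub_mem_of {a : IsoDat ρ x y} {φ ψ : BC x (m.Q n) ≃ₐ[R'] BC y (m.Q n)} (hφ : φ ∈ LP m hn a)
    (hψ : ψ ∈ LP m hn a) {p : ℕ} {q : BC x (m.Q n)} (hq : q ∈ FilBC m x p) : φ q - ψ q ∈ FilBC m y (p + 1) :=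
  IsLP.sub_mem Mx My a.map_smul (fun v d => (a.compat v d).1) hφ hψ hq

end flat

end LP

end IsoDat

/-! ### The groupoid of points -/

section gpd

variable {R : Type u} [CommRing R] {D : Type u} [CommRing D] [Algebra R D] {V : Type u} [AddCommGroup V]
  [Module D V] [Module R V] [IsScalarTower R D V] {ρ : V →ₗ[D] Ω[D⁄R]} (m : Model R D V ρ)

/-- The groupoid of isomorphisms of the base-changed data. -/
noncomputable def datGpd : PGpd.{u} R where
  Hom x y := IsoDat ρ x y
  id x := IsoDat.refl ρ x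
  comp a b := a.trans b
  inv a := a.symm
  id_comp _ := IsoDat.ext rfl rfl
  comp_id _ := IsoDat.ext rfl rfl
  comp_assoc _ _ _ := IsoDat.ext rfl rfl
  comp_inv a := IsoDat.ext (AlgEquiv.ext fun d => a.eta.symm_apply_apply d)
    (LinearEquiv.ext fun v => a.etaV.symm_apply_apply v)
  inv_comp a := IsoDat.ext (AlgEquiv.ext fun d => a.eta.apply_symm_apply d)
    (LinearEquiv.ext fun v => a.etaV.apply_symm_apply v)
  pull f _ _ _ _ hx hy a := a.pull m f hx hy
  pull_id _ _ _ hx := IsoDat.ext (pullA_refl hx) (BC.pullE_refl hx)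
  pull_comp _ _ _ _ _ _ _ hx hy hz a b := IsoDat.ext (pullA_trans hx hy hz a.eta b.eta)
    (BC.pullE_trans hx hy hz a.etaV b.etaV)
  pull_idRing a := IsoDat.ext (pullA_idRing a.eta _ _) (BC.pullE_idRing a.etaV _ _)
  pull_pull _ _ _ _ _ _ _ _ hx hy hx' hy' hx'' hy'' a :=
    IsoDat.ext (pullA_pullA hx hy hx' hy' hx'' hy'' a.eta) (BC.pullE_pullE hx hy hx' hy' hx'' hy'' a.etaV)

theorem bil_mulR {R' : Type u} [CommRing R'] (x : R →+* R') (d d' : BC x D) :
    BC.bil x (mulR R D) d d' = d * d' := by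
  induction d using BC.ind with
  | h0 => rw [map_zero, LinearMap.zero_apply, zero_mul]
  | h2 a b ha hb => rw [map_add, LinearMap.add_apply, ha, hb, add_mul]
  | h1 r a =>
    induction d' using BC.ind with
    | h0 => rw [map_zero, mul_zero]
    | h2 b c hb hc => rw [map_add, hb, hc, mul_add]
    | h1 s b =>
      rw [LinearMap.map_smul₂, map_smul, BC.bil_bc, smul_mul_smul_comm, ← BC.bc_mul, smul_smul]
      rfl

/-- The action of the arrows on `D`. -/
noncomputable def datAlg : EqAlg (datGpd m) D where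
  act a := IsoDat.eta a |>.toLinearEquiv
  act_id _ := rfl
  act_comp _ _ := rfl
  act_pull _ _ _ _ _ _ _ _ := rfl
  act_mul a d d' := by
    rw [bil_mulR, bil_mulR]
    exact map_mul (IsoDat.eta a) d d'
  act_one a := by
    rw [BC.bc_one, BC.bc_one]
    exact map_one (IsoDat.eta a)

/-- The action of the arrows on `V`. -/
noncomputable def datMod : EqMod (datGpd m) V where
  act a := IsoDat.etaV a
  act_id _ := rfl
  act_comp _ _ := rfl
  act_pull _ _ _ _ _ _ _ _ := rfl

end gpd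

end Groth.Agent.ResProp.EF.K863
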