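import Groth.Agent.ResProp.EF.K863.Quot
import Mathlib.RingTheory.Noetherian.Basic
import Mathlib.RingTheory.Polynomial.Basic
import Mathlib.RingTheory.Finiteness.Basic

/-!
# Functoriality and products of the graded pieces of a model (G3, 3.2)
-/

set_option autoImplicit false

open MvPolynomial

namespace Groth.Agent.ResProp.EF.K863

section gr

variable {R : Type*} [CommRing R]
  {D : Type*} [CommRing D] [Algebra R D] {V : Type*} [AddCommGroup V] [Module D V] {ρ : V →ₗ[D] Ω[D⁄R]}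
  {D' : Type*} [CommRing D'] [Algebra R D'] {V' : Type*} [AddCommGroup V'] [Module D' V']
  {ρ' : V' →ₗ[D'] Ω[D'⁄R]}
  {D'' : Type*} [CommRing D''] [Algebra R D''] {V'' : Type*} [AddCommGroup V''] [Module D'' V'']
  {ρ'' : V'' →ₗ[D''] Ω[D''⁄R]}
  {m : Model R D V ρ} {m' : Model R D' V' ρ'} {m'' : Model R D'' V'' ρ''}

/-- Two lifts of the same map of data agree modulo `Fil 2` on the quotients. -/
theorem IsModelHom.mapQ_sub_mem_two {h : DatumHom ρ ρ'} {φ ψ : m.PP →ₐ[R] m'.PP} (hφ : IsModelHom h φ)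
    (hψ : IsModelHom h ψ) (n : ℕ) (x : m.Q n) : hφ.mapQ n x - hψ.mapQ n x ∈ m'.FilQ n 2 := by
  obtain ⟨z, rfl⟩ := Ideal.Quotient.mk_surjective x
  exact Model.mem_FilQ.2 ⟨φ z - ψ z, hφ.sub_mem_Fil_two hψ z, by simp⟩

@[simp] theorem IsModelHom.mapQ_id (m : Model R D V ρ) (n : ℕ) :
    (IsModelHom.id m).mapQ n = AlgHom.id R (m.Q n) := by
  refine AlgHom.ext fun x => ?_
  obtain ⟨z, rfl⟩ := Ideal.Quotient.mk_surjective x
  rfl

theorem IsModelHom.mapQ_comp {g : DatumHom ρ' ρ''} {h : DatumHom ρ ρ'} {ψ : m'.PP →ₐ[R] m''.PP}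
    {φ : m.PP →ₐ[R] m'.PP} (hψ : IsModelHom g ψ) (hφ : IsModelHom h φ) (n : ℕ) :
    (hψ.comp hφ).mapQ n = (hψ.mapQ n).comp (hφ.mapQ n) := by
  refine AlgHom.ext fun x => ?_
  obtain ⟨z, rfl⟩ := Ideal.Quotient.mk_surjective x
  rfl

/-! ### Recursive description of the filtration -/

theorem Model.Fil_succ_succ (m : Model R D V ρ) (n : ℕ) :
    m.Fil (n + 2) = m.Fil (n + 1) * m.J ⊔ m.Fil n * m.J2 := by
  refine le_antisymm (m.Fil_le fun a b hab => ?_) (sup_le ?_ ?_)
  · rcases Nat.eq_zero_or_pos a with ha | ha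
    · subst ha
      obtain ⟨b, rfl⟩ : ∃ b', b = b' + 1 := ⟨b - 1, by omega⟩
      refine le_trans ?_ le_sup_right
      rw [pow_succ, ← mul_assoc]
      exact Ideal.mul_mono_left (m.le_Fil (by omega))
    · obtain ⟨a, rfl⟩ : ∃ a', a = a' + 1 := ⟨a - 1, by omega⟩
      refine le_trans ?_ le_sup_left
      rw [pow_succ, mul_right_comm]
      exact Ideal.mul_mono_left (m.le_Fil (by omega))
  · have := m.Fil_mul_le (n + 1) 1
    rwa [Model.Fil_one] at this
  · have := m.Fil_mul_le n 2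
    rwa [Model.Fil_two] at this

/-! ### The graded pieces as a functor of the data -/

theorem Model.algebraMap_smul_gr {n : ℕ} (r : R) (x : m.gr n) : algebraMap R D r • x = r • x := by
  have h1 : algebraMap R D r = m.f (algebraMap R m.PP r) := (m.f.commutes r).symm
  rw [h1, Model.f_smul_gr]
  exact algebraMap_smul m.PP r x

instance Model.gr_isScalarTower (m : Model R D V ρ) (n : ℕ) : IsScalarTower R D (m.gr n) where
  smul_assoc r d x := by
    rw [Algebra.smul_def, mul_smul, Model.algebraMap_smul_gr]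

/-- The graded pieces only depend on the datum: the `R`-linear map attached to a map of data. -/
noncomputable def DatumHom.gr (h : DatumHom ρ ρ') (m : Model R D V ρ) (m' : Model R D' V' ρ') (n : ℕ) :
    m.gr n →ₗ[R] m'.gr n where
  toFun := (exists_modelHom m m' h).choose_spec.grMap n
  map_add' := map_add _
  map_smul' r x := by
    rw [← Model.algebraMap_smul_gr, IsModelHom.grMap_smul, AlgHom.commutes, Model.algebraMap_smul_gr]
    rfl

theorem IsModelHom.gr_eq_grMap {h : DatumHom ρ ρ'} {φ : m.PP →ₐ[R] m'.PP} (hφ : IsModelHom h φ) (n : ℕ)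
    (x : m.gr n) : h.gr m m' n x = hφ.grMap n x :=
  DFunLike.congr_fun ((exists_modelHom m m' h).choose_spec.grMap_eq hφ n) x

/-- The map on `gr` is computed by any lift. -/
theorem IsModelHom.gr_toGr {h : DatumHom ρ ρ'} {φ : m.PP →ₐ[R] m'.PP} (hφ : IsModelHom h φ) {n : ℕ}
    (z : m.Fil n) : h.gr m m' n (m.toGr n z) = m'.toGr n ⟨φ z, hφ.map_Fil z.2⟩ := by
  rw [hφ.gr_eq_grMap, hφ.grMap_toGr]

namespace DatumHom

theorem gr_smul (h : DatumHom ρ ρ') (m : Model R D V ρ) (m' : Model R D' V' ρ') (n : ℕ) (d : D)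
    (x : m.gr n) : h.gr m m' n (d • x) = h.η d • h.gr m m' n x := by
  obtain ⟨φ, hφ⟩ := exists_modelHom m m' h
  rw [hφ.gr_eq_grMap, hφ.gr_eq_grMap, hφ.grMap_smul]

@[simp] theorem gr_id (m : Model R D V ρ) (n : ℕ) (x : m.gr n) : (DatumHom.id ρ).gr m m n x = x := by
  obtain ⟨z, rfl⟩ := m.toGr_surjective n x
  rw [(IsModelHom.id m).gr_toGr]
  rfl

theorem gr_comp (g : DatumHom ρ' ρ'') (h : DatumHom ρ ρ') (m : Model R D V ρ) (m' : Model R D' V' ρ')
    (m'' : Model R D'' V'' ρ'') (n : ℕ) (x : m.gr n) :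
    (g.comp h).gr m m'' n x = g.gr m' m'' n (h.gr m m' n x) := by
  obtain ⟨φ, hφ⟩ := exists_modelHom m m' h
  obtain ⟨ψ, hψ⟩ := exists_modelHom m' m'' g
  obtain ⟨z, rfl⟩ := m.toGr_surjective n x
  rw [hφ.gr_toGr, hψ.gr_toGr, (hψ.comp hφ).gr_toGr]
  rfl

/-- An isomorphism of data induces isomorphisms on the graded pieces. -/
noncomputable def grEquiv {h : DatumHom ρ ρ'} {g : DatumHom ρ' ρ} (hg : h.IsInv g) (m : Model R D V ρ)
    (m' : Model R D' V' ρ') (n : ℕ) : m.gr n ≃ₗ[R] m'.gr n :=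
  LinearEquiv.ofLinearMap (h.gr m m' n) (g.gr m' m n)
    (LinearMap.ext fun x => by
      rw [LinearMap.comp_apply, ← gr_comp, hg.right, gr_id]; rfl)
    (LinearMap.ext fun x => by
      rw [LinearMap.comp_apply, ← gr_comp, hg.left, gr_id]; rfl)

@[simp] theorem grEquiv_apply {h : DatumHom ρ ρ'} {g : DatumHom ρ' ρ} (hg : h.IsInv g) (m : Model R D V ρ)
    (m' : Model R D' V' ρ') (n : ℕ) (x : m.gr n) : grEquiv hg m m' n x = h.gr m m' n x := rfl

@[simp] theorem grEquiv_symm_apply {h : DatumHom ρ ρ'} {g : DatumHom ρ' ρ} (hg : h.IsInv g)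
    (m : Model R D V ρ) (m' : Model R D' V' ρ') (n : ℕ) (x : m'.gr n) :
    (grEquiv hg m m' n).symm x = g.gr m' m n x := rfl

end DatumHom

/-! ### Products -/

namespace Model

variable (m)

/-- The product of elements of the filtration. -/
noncomputable def FilMul (a b : ℕ) (z : m.Fil a) (w : m.Fil b) : m.Fil (a + b) :=
  ⟨(z : m.PP) * (w : m.PP), m.mul_mem_Fil z.2 w.2⟩

/-- Multiplication by `z : Fil a` from `gr b` to `gr (a + b)`. -/
noncomputable def grMulAux (a b : ℕ) (z : m.Fil a) : m.gr b →ₗ[m.PP] m.gr (a + b) :=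
  Submodule.liftQ _
    ({ toFun := fun w => m.toGr (a + b) (m.FilMul a b z w)
       map_add' := fun w w' => by
        rw [← map_add]; congr 1; exact Subtype.ext (mul_add (z : m.PP) w w')
       map_smul' := fun c w => by
        rw [RingHom.id_apply, ← map_smul]; congr 1
        exact Subtype.ext (mul_left_comm (z : m.PP) c w) } : m.Fil b →ₗ[m.PP] m.gr (a + b))
    (by
      intro w hw
      refine (m.toGr_eq_zero_iff _).2 ?_
      exact m.mul_mem_Fil (p := a) (q := b + 1) z.2 hw)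

theorem grMulAux_toGr (a b : ℕ) (z : m.Fil a) (w : m.Fil b) :
    m.grMulAux a b z (m.toGr b w) = m.toGr (a + b) (m.FilMul a b z w) := rfl

/-- The product on the graded pieces, linear over the polynomial ring. -/
noncomputable def grMulP (a b : ℕ) : m.gr a →ₗ[m.PP] m.gr b →ₗ[m.PP] m.gr (a + b) :=
  Submodule.liftQ _
    ({ toFun := fun z => m.grMulAux a b z
       map_add' := fun z z' => by
        refine LinearMap.ext fun x => ?_
        obtain ⟨w, rfl⟩ := m.toGr_surjective b x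
        rw [LinearMap.add_apply, grMulAux_toGr, grMulAux_toGr, grMulAux_toGr, ← map_add]
        congr 1; exact Subtype.ext (add_mul (z : m.PP) z' w)
       map_smul' := fun c z => by
        refine LinearMap.ext fun x => ?_
        obtain ⟨w, rfl⟩ := m.toGr_surjective b x
        rw [RingHom.id_apply, LinearMap.smul_apply, grMulAux_toGr, grMulAux_toGr, ← map_smul]
        congr 1; exact Subtype.ext (mul_assoc c (z : m.PP) w) } :
      m.Fil a →ₗ[m.PP] m.gr b →ₗ[m.PP] m.gr (a + b))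
    (by
      intro z hz
      refine LinearMap.ext fun x => ?_
      obtain ⟨w, rfl⟩ := m.toGr_surjective b x
      refine (m.toGr_eq_zero_iff _).2 ?_
      have := m.mul_mem_Fil (p := a + 1) hz w.2
      rwa [show a + 1 + b = a + b + 1 by omega] at this)

theorem grMulP_toGr (a b : ℕ) (z : m.Fil a) (w : m.Fil b) :
    m.grMulP a b (m.toGr a z) (m.toGr b w) = m.toGr (a + b) (m.FilMul a b z w) := rfl

/-- The product `gr a × gr b → gr (a + b)`, bilinear over `D`. -/
noncomputable def grMul (a b : ℕ) : m.gr a →ₗ[D] m.gr b →ₗ[D] m.gr (a + b) :=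
  LinearMap.mk₂ D (fun x y => m.grMulP a b x y)
    (fun x x' y => by rw [map_add, LinearMap.add_apply])
    (fun d x y => by
      obtain ⟨c, rfl⟩ := m.surj d
      rw [f_smul_gr, f_smul_gr, map_smul, LinearMap.smul_apply])
    (fun x y y' => by rw [map_add])
    (fun d x y => by
      obtain ⟨c, rfl⟩ := m.surj d
      rw [f_smul_gr, f_smul_gr, map_smul])

theorem grMul_toGr (a b : ℕ) (z : m.Fil a) (w : m.Fil b) :
    m.grMul a b (m.toGr a z) (m.toGr b w) = m.toGr (a + b) (m.FilMul a b z w) := rfl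

theorem toGr_mul {a b : ℕ} {z w : m.PP} (hz : z ∈ m.Fil a) (hw : w ∈ m.Fil b) (h : z * w ∈ m.Fil (a + b)) :
    m.toGr (a + b) ⟨z * w, h⟩ = m.grMul a b (m.toGr a ⟨z, hz⟩) (m.toGr b ⟨w, hw⟩) := rfl

/-- The graded pieces in degrees `≥ 2` are generated by `gr 1` and `gr 2`. -/
theorem span_grMul_eq_top (n : ℕ) :
    Submodule.span D ({x | ∃ y z, m.grMul (n + 1) 1 y z = x} ∪ {x | ∃ y z, m.grMul n 2 y z = x}) =
      (⊤ : Submodule D (m.gr (n + 2))) := by
  rw [eq_top_iff]
  rintro x -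
  obtain ⟨⟨z, hz⟩, rfl⟩ := m.toGr_surjective (n + 2) x
  have hz' := hz
  rw [Fil_succ_succ, Submodule.mem_sup] at hz'
  obtain ⟨u, hu, v, hv, rfl⟩ := hz'
  have hJ : ∀ u (hu : u ∈ m.Fil (n + 1) * m.J), ∃ h : u ∈ m.Fil (n + 2), m.toGr (n + 2) ⟨u, h⟩ ∈
      Submodule.span D ({x | ∃ y z, m.grMul (n + 1) 1 y z = x} ∪ {x | ∃ y z, m.grMul n 2 y z = x}) := by
    intro u hu
    refine Submodule.mul_induction_on hu (fun x hx y hy => ?_) fun x y hx hy => ?_
    · rw [← Fil_one] at hy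
      exact ⟨m.mul_mem_Fil (p := n + 1) (q := 1) hx hy,
        Submodule.subset_span (Or.inl ⟨m.toGr _ ⟨x, hx⟩, m.toGr _ ⟨y, hy⟩, rfl⟩)⟩
    · obtain ⟨h1, h1'⟩ := hx
      obtain ⟨h2, h2'⟩ := hy
      refine ⟨(m.Fil (n + 2)).add_mem h1 h2, ?_⟩
      have := Submodule.add_mem _ h1' h2'
      rw [← map_add] at this
      exact this
  have hJ2 : ∀ u (hu : u ∈ m.Fil n * m.J2), ∃ h : u ∈ m.Fil (n + 2), m.toGr (n + 2) ⟨u, h⟩ ∈
      Submodule.span D ({x | ∃ y z, m.grMul (n + 1) 1 y z = x} ∪ {x | ∃ y z, m.grMul n 2 y z = x}) := by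
    intro u hu
    refine Submodule.mul_induction_on hu (fun x hx y hy => ?_) fun x y hx hy => ?_
    · rw [← Fil_two] at hy
      exact ⟨m.mul_mem_Fil hx hy, Submodule.subset_span (Or.inr ⟨m.toGr _ ⟨x, hx⟩, m.toGr _ ⟨y, hy⟩, rfl⟩)⟩
    · obtain ⟨h1, h1'⟩ := hx
      obtain ⟨h2, h2'⟩ := hy
      refine ⟨(m.Fil (n + 2)).add_mem h1 h2, ?_⟩
      have := Submodule.add_mem _ h1' h2'
      rw [← map_add] at this
      exact this
  obtain ⟨h1, h1'⟩ := hJ u hu
  obtain ⟨h2, h2'⟩ := hJ2 v hv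
  have := Submodule.add_mem _ h1' h2'
  rw [← map_add] at this
  exact this

/-- The graded pieces are finitely generated. -/
instance gr_finite [IsNoetherianRing R] (n : ℕ) : Module.Finite D (m.gr n) := by
  have : Module.Finite m.PP (m.Fil n) := Module.Finite.iff_fg.2 (IsNoetherian.noetherian (m.Fil n))
  have : Module.Finite m.PP (m.gr n) := inferInstance
  have : RingHomSurjective m.f.toRingHom := ⟨m.surj⟩
  let g : m.gr n →ₛₗ[m.f.toRingHom] m.gr n :=
    { toFun := fun x => x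
      map_add' := fun _ _ => rfl
      map_smul' := fun c x => (m.f_smul_gr c x).symm }
  exact Module.Finite.of_surjective g fun x => ⟨x, rfl⟩

end Model

/-- The maps on `gr` are multiplicative. -/
theorem DatumHom.gr_grMul (h : DatumHom ρ ρ') (m : Model R D V ρ) (m' : Model R D' V' ρ') (a b : ℕ)
    (x : m.gr a) (y : m.gr b) :
    h.gr m m' (a + b) (m.grMul a b x y) = m'.grMul a b (h.gr m m' a x) (h.gr m m' b y) := by
  obtain ⟨φ, hφ⟩ := exists_modelHom m m' h
  obtain ⟨z, rfl⟩ := m.toGr_surjective a x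
  obtain ⟨w, rfl⟩ := m.toGr_surjective b y
  rw [Model.grMul_toGr, hφ.gr_toGr, hφ.gr_toGr, hφ.gr_toGr, Model.grMul_toGr]
  congr 1
  exact Subtype.ext (map_mul φ (z : m.PP) w)

end gr

end Groth.Agent.ResProp.EF.K863
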