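import Groth.Agent.ResProp.EF.K341.GrIsBC
import Groth.Agent.ResProp.EF.K863.LPFlat
import Groth.Agent.ResProp.EF.K431.LevPM

/-!
# The action of isomorphisms of data on the graded pieces, at flat points (GR-half, g1)

`grA m hx hy a n : BC x (m.gr n) ≃ₗ[R'] BC y (m.gr n)` for `a : IsoDat ρ x y`, `x`, `y` flat; identities, composition,
inverses, pull-back, semilinearity over `a.eta`, computed by any lift.
-/

set_option autoImplicit false

universe u

open MvPolynomial

namespace Groth.Agent.ResProp.EF.K863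

open K980 K784.BC

section

variable {R : Type u} [CommRing R] {D : Type u} [CommRing D] [Algebra R D] {V : Type u} [AddCommGroup V]
  [Module D V] [Module R V] [IsScalarTower R D V] {ρ : V →ₗ[D] Ω[D⁄R]}
  {R' : Type u} [CommRing R'] {R'' : Type u} [CommRing R'']

/-- The base change map of data. -/
noncomputable def bcS (ρ : V →ₗ[D] Ω[D⁄R]) (x : R →+* R') : K341.SHom ρ (EF.K964.rhoBC x ρ) x where
  η := BC.bcHom x
  η_alg r := BC.bc_algebraMap r
  ηV := (bc x : V →ₛₗ[x] BC x V).toAddMonoidHom
  map_smul d v := BC.bc_smul d v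
  compat v y h := by
    change EF.K964.rhoBC x ρ (bc x v) = KaehlerDifferential.D R' (BC x D) (bc x y)
    rw [EF.K964.rhoBC_bc, h, EF.K964.kmap_D]

/-- Further base change as a map of data. -/
noncomputable def trS (m : Model R D V ρ) {x : R →+* R'} {x' : R →+* R''} (f : R' →+* R'') (hx : f.comp x = x') :
    K341.SHom (EF.K964.rhoBC x ρ) (EF.K964.rhoBC x' ρ) f where
  η := BC.trHom f hx
  η_alg r := by
    change BC.tr f hx (algebraMap R' (BC x D) r) = _
    rw [Algebra.algebraMap_eq_smul_one, LinearMap.map_smulₛₗ, BC.tr_one, Algebra.algebraMap_eq_smul_one]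
  ηV := (BC.tr f hx : BC x V →ₛₗ[f] BC x' V).toAddMonoidHom
  map_smul d v := tr_smul hx d v
  compat v d h := tr_compat m hx v d h

/-- An isomorphism of data as a map of data. -/
noncomputable def isoS {x y : R →+* R'} (a : IsoDat ρ x y) :
    K341.SHom (EF.K964.rhoBC x ρ) (EF.K964.rhoBC y ρ) (RingHom.id R') where
  η := a.eta.toAlgHom.toRingHom
  η_alg r := a.eta.commutes r
  ηV := a.etaV.toLinearMap.toAddMonoidHom
  map_smul := a.map_smul
  compat v d h := (a.compat v d).1 h

variable (m : Model R D V ρ) (n : ℕ)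

/-- `BC x (gr n) → gr n` of the base-changed model. -/
noncomputable def grC (x : R →+* R') : BC x (m.gr n) →ₗ[R'] (EF.K964.mBC x m).gr n :=
  BC.lift (RingHom.id_comp x)
    { (bcS ρ x).gr m (EF.K964.mBC x m) n with
      map_smul' := fun r a => K341.SHom.gr_rsmul (bcS ρ x) m (EF.K964.mBC x m) n r a }

@[simp] theorem grC_bc (x : R →+* R') (z : m.gr n) :
    grC m n x (bc x z) = (bcS ρ x).gr m (EF.K964.mBC x m) n z := BC.lift_bc _ _ z

theorem isSHom_ppMap (x : R →+* R') : K341.IsSHom (m₁ := EF.K964.mBC x m) (bcS ρ x) (EF.K964.ppMap x m) where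
  map_C := EF.K964.ppMap_C x m
  f_eq := EF.K964.f_ppMap x m
  dV_eq := EF.K964.dV_ppMap x m

theorem grC_toGr (x : R →+* R') (z : m.Fil n) :
    grC m n x (bc x (m.toGr n z)) =
      (EF.K964.mBC x m).toGr n ⟨EF.K964.ppMap x m z, (isSHom_ppMap m x).map_Fil z.2⟩ := by
  rw [grC_bc, K341.SHom.gr_toGr (isSHom_ppMap m x)]

theorem grC_bijective {x : R →+* R'} (hx : x.Flat) : Function.Bijective (grC m n x) := by
  have h1 := K341.SHom.isBC_gr (bcS ρ x) hx (K431.isBC_bc x D) ?_ m (EF.K964.mBC x m) n
  · exact (K431.isBC_bc x (m.gr n)).bijective_of_isBC h1 (grC m n x) fun z => grC_bc m n x z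
  · -- `BC x V` is the base change of `V` along `D → BC x D`
    refine IsBC.of_lift (fun d v => BC.bc_smul d v) (fun Q _ _ g hg => ?_)
    let _ : Module R' Q := Module.compHom Q (algebraMap R' (BC x D))
    have htow : ∀ (r : R') (q : Q), r • q = algebraMap R' (BC x D) r • q := fun _ _ => rfl
    have hg' : ∀ (r : R) (v : V), g (r • v) = x r • g v := fun r v => by
      rw [← algebraMap_smul D r v, hg, htow]
      congr 1
      exact BC.bc_algebraMap r
    let g0 : BC x V →ₗ[R'] Q := BC.lift (RingHom.id_comp x) { g with map_smul' := hg' }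
    have hg0 : ∀ v, g0 (bc x v) = g v := fun v => BC.lift_bc _ _ v
    refine ⟨{ g0 with map_smul' := fun d v => ?_ }, hg0, fun g1 h1 => ?_⟩
    · change g0 (d • v) = d • g0 v
      induction d using BC.ind with
      | h0 => rw [zero_smul, map_zero, zero_smul]
      | h2 a b ha hb => rw [add_smul, map_add, add_smul, ha, hb]
      | h1 r d =>
        rw [smul_assoc, g0.map_smul r, htow, ← algebraMap_smul (BC x D) r (bc x d), smul_eq_mul, mul_smul]
        congr 1
        induction v using BC.ind with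
        | h0 => rw [smul_zero, map_zero, smul_zero]
        | h2 v w hv hw => rw [smul_add, map_add, map_add, smul_add, hv, hw]
        | h1 s v =>
          rw [smul_comm (bc x d) s (bc x v), g0.map_smul s, g0.map_smul s, ← BC.bc_smul, hg0, hg0, hg, htow, htow,
            smul_smul, smul_smul, mul_comm]
          rfl
    · ext v
      induction v using BC.ind with
      | h0 => rw [map_zero, map_zero]
      | h2 v w hv hw => rw [map_add, map_add, hv, hw]
      | h1 r v =>
        change g1 (r • bc x v) = g0 (r • bc x v)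
        rw [g0.map_smul r, hg0, ← algebraMap_smul (BC x D) r (bc x v), g1.map_smul, htow]
        exact congrArg _ (h1 v)

/-- `BC x (gr n)` is `gr n` of the base-changed model, for `x` flat. -/
noncomputable def grE {x : R →+* R'} (hx : x.Flat) : BC x (m.gr n) ≃ₗ[R'] (EF.K964.mBC x m).gr n :=
  LinearEquiv.ofBijective (grC m n x) (grC_bijective m n hx)

@[simp] theorem grE_apply {x : R →+* R'} (hx : x.Flat) (z : BC x (m.gr n)) : grE m n hx z = grC m n x z := rfl

theorem grC_tr {x : R →+* R'} {x' : R →+* R''} (f : R' →+* R'') (hx : f.comp x = x') (z : BC x (m.gr n)) :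
    (trS m f hx).gr (EF.K964.mBC x m) (EF.K964.mBC x' m) n (grC m n x z) = grC m n x' (BC.tr f hx z) := by
  induction z using BC.ind with
  | h0 => simp
  | h2 a b ha hb => rw [map_add, map_add, map_add, map_add, ha, hb]
  | h1 r z =>
    rw [LinearMap.map_smul, K341.SHom.gr_rsmul, LinearMap.map_smulₛₗ, LinearMap.map_smul, BC.tr_bc, grC_bc, grC_bc,
      ← K341.SHom.gr_comp]
    congr 1
    exact K341.SHom.gr_congr hx _ _ (fun d => BC.tr_bc hx d) (fun v => BC.tr_bc hx v) n z

/-- `grC` is linear over `BC x D`. -/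
theorem grC_bil (x : R →+* R') (d : BC x D) (z : BC x (m.gr n)) :
    grC m n x (BC.bil x (smulR R D (m.gr n)) d z) = d • grC m n x z := by
  induction d using BC.ind with
  | h0 => simp
  | h2 a b ha hb => rw [map_add, LinearMap.add_apply, map_add, ha, hb, add_smul]
  | h1 r d =>
    have e : (r • bc x d) • grC m n x z = r • (bc x d • grC m n x z) := by
      rw [← algebraMap_smul (BC x D) r (bc x d), smul_eq_mul, mul_smul, K341.gr_rsmul]
    rw [LinearMap.map_smul₂, LinearMap.map_smul, e]
    clear e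
    congr 1
    induction z using BC.ind with
    | h0 => simp
    | h2 a b ha hb => rw [map_add, map_add, map_add, smul_add, ha, hb]
    | h1 s z =>
      have e1 : grC m n x (BC.bil x (smulR R D (m.gr n)) (bc x d) (s • bc x z)) =
          s • grC m n x (bc x (d • z)) := by
        rw [LinearMap.map_smul, LinearMap.map_smul, BC.bil_bc]
        rfl
      have e2 : grC m n x (s • bc x z) = s • grC m n x (bc x z) := LinearMap.map_smul _ _ _
      have c : ∀ w : (EF.K964.mBC x m).gr n, s • (bc x d • w) = bc x d • (s • w) := fun w => by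
        rw [K341.gr_rsmul (EF.K964.mBC x m) n s (bc x d • w), K341.gr_rsmul (EF.K964.mBC x m) n s w, smul_smul,
          smul_smul, mul_comm]
      rw [e1, e2, grC_bc, grC_bc, K341.SHom.gr_smul]
      exact c _

/-- The action on the graded pieces of the base-changed models. -/
noncomputable def isoGr {x y : R →+* R'} (a : IsoDat ρ x y) : (EF.K964.mBC x m).gr n ≃ₗ[R'] (EF.K964.mBC y m).gr n :=
  LinearEquiv.ofLinearMap
    ({ (isoS a).gr (EF.K964.mBC x m) (EF.K964.mBC y m) n with
       map_smul' := fun r z => K341.SHom.gr_rsmul (isoS a) _ _ n r z } :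
        (EF.K964.mBC x m).gr n →ₗ[R'] (EF.K964.mBC y m).gr n)
    ({ (isoS a.symm).gr (EF.K964.mBC y m) (EF.K964.mBC x m) n with
       map_smul' := fun r z => K341.SHom.gr_rsmul (isoS a.symm) _ _ n r z } :
        (EF.K964.mBC y m).gr n →ₗ[R'] (EF.K964.mBC x m).gr n)
    (LinearMap.ext fun z => by
      change (isoS a).gr _ _ n ((isoS a.symm).gr _ _ n z) = z
      rw [← K341.SHom.gr_comp]
      refine (K341.SHom.gr_congr (RingHom.id_comp _) _ (K341.SHom.id _) (fun d => ?_) (fun v => ?_) n z).trans
        (K341.SHom.gr_id _ n z)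
      · exact a.eta.apply_symm_apply d
      · exact a.etaV.apply_symm_apply v)
    (LinearMap.ext fun z => by
      change (isoS a.symm).gr _ _ n ((isoS a).gr _ _ n z) = z
      rw [← K341.SHom.gr_comp]
      refine (K341.SHom.gr_congr (RingHom.id_comp _) _ (K341.SHom.id _) (fun d => ?_) (fun v => ?_) n z).trans
        (K341.SHom.gr_id _ n z)
      · exact a.eta.symm_apply_apply d
      · exact a.etaV.symm_apply_apply v)

theorem isoGr_apply {x y : R →+* R'} (a : IsoDat ρ x y) (z : (EF.K964.mBC x m).gr n) :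
    isoGr m n a z = (isoS a).gr (EF.K964.mBC x m) (EF.K964.mBC y m) n z := rfl

/-- **The action of an arrow on `gr n`, at flat points.** -/
noncomputable def grA {x y : R →+* R'} (hx : x.Flat) (hy : y.Flat) (a : IsoDat ρ x y) :
    BC x (m.gr n) ≃ₗ[R'] BC y (m.gr n) :=
  (grE m n hx).trans ((isoGr m n a).trans (grE m n hy).symm)

theorem grC_grA {x y : R →+* R'} (hx : x.Flat) (hy : y.Flat) (a : IsoDat ρ x y) (z : BC x (m.gr n)) :
    grC m n y (grA m n hx hy a z) = (isoS a).gr (EF.K964.mBC x m) (EF.K964.mBC y m) n (grC m n x z) :=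
  (grE m n hy).apply_symm_apply _

theorem grC_injective {x : R →+* R'} (hx : x.Flat) : Function.Injective (grC m n x) := (grC_bijective m n hx).1

theorem grA_refl {x : R →+* R'} (hx : x.Flat) : grA m n hx hx (IsoDat.refl ρ x) = LinearEquiv.refl R' _ := by
  ext z
  apply grC_injective m n hx
  rw [grC_grA]
  exact (K341.SHom.gr_congr rfl _ (K341.SHom.id _) (fun _ => rfl) (fun _ => rfl) n _).trans (K341.SHom.gr_id _ n _)

theorem grA_trans {x y z : R →+* R'} (hx : x.Flat) (hy : y.Flat) (hz : z.Flat) (a : IsoDat ρ x y)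
    (b : IsoDat ρ y z) : grA m n hx hz (a.trans b) = (grA m n hx hy a).trans (grA m n hy hz b) := by
  ext w
  apply grC_injective m n hz
  rw [LinearEquiv.trans_apply, grC_grA, grC_grA, grC_grA, ← K341.SHom.gr_comp]
  exact K341.SHom.gr_congr (RingHom.id_comp _).symm _ _ (fun _ => rfl) (fun _ => rfl) n _

theorem grA_symm {x y : R →+* R'} (hx : x.Flat) (hy : y.Flat) (a : IsoDat ρ x y) :
    (grA m n hx hy a).symm = grA m n hy hx a.symm := by
  ext w
  obtain ⟨z, rfl⟩ := (grA m n hx hy a).surjective w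
  rw [LinearEquiv.symm_apply_apply]
  have h := grA_trans m n hx hy hx a a.symm
  have e : a.trans a.symm = IsoDat.refl ρ x := IsoDat.ext (AlgEquiv.ext fun d => a.eta.symm_apply_apply d)
    (LinearEquiv.ext fun v => a.etaV.symm_apply_apply v)
  rw [e, grA_refl] at h
  exact LinearEquiv.congr_fun h z

theorem grA_pull {x y : R →+* R'} {x' y' : R →+* R''} {f : R' →+* R''} (h1 : f.comp x = x') (h2 : f.comp y = y')
    (hx : x.Flat) (hy : y.Flat) (hx' : x'.Flat) (hy' : y'.Flat) (a : IsoDat ρ x y) :
    BC.pullE f h1 h2 (grA m n hx hy a) = grA m n hx' hy' (a.pull m f h1 h2) := by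
  refine LinearEquiv.toLinearMap_injective (BC.hom_ext fun z => ?_)
  change BC.pullE f h1 h2 (grA m n hx hy a) (bc x' z) = grA m n hx' hy' (a.pull m f h1 h2) (bc x' z)
  apply grC_injective m n hy'
  rw [BC.pullE_bc, ← grC_tr, grC_grA, grC_grA, grC_bc, grC_bc, ← K341.SHom.gr_comp, ← K341.SHom.gr_comp,
    ← K341.SHom.gr_comp]
  refine K341.SHom.gr_congr ?_ _ _ (fun d => ?_) (fun v => ?_) n z
  · subst h1; rfl
  · exact (pullA_bc h1 h2 a.eta d).symm
  · exact (BC.pullE_bc h1 h2 a.etaV v).symm

/-- Semilinearity. -/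
theorem grA_bil {x y : R →+* R'} (hx : x.Flat) (hy : y.Flat) (a : IsoDat ρ x y) (d : BC x D)
    (z : BC x (m.gr n)) : grA m n hx hy a (BC.bil x (smulR R D (m.gr n)) d z) =
      BC.bil y (smulR R D (m.gr n)) (a.eta d) (grA m n hx hy a z) := by
  apply grC_injective m n hy
  rw [grC_grA, grC_bil, grC_bil, grC_grA, K341.SHom.gr_smul]
  rfl

end

end Groth.Agent.ResProp.EF.K863
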