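import Groth.Agent.ResProp.EF.K863.Model

/-!
# Maps of models (G3, 3.2)
-/

set_option autoImplicit false

open MvPolynomial TensorProduct

namespace Groth.Agent.ResProp.EF.K863

namespace Model

variable {R : Type*} [CommRing R] {D : Type*} [CommRing D] [Algebra R D] {V : Type*}
  [AddCommGroup V] [Module D V] {ρ : V →ₗ[D] Ω[D⁄R]} (m : Model R D V ρ)

/-- `J → ker ρ` is onto. -/
theorem exists_mem_J (v : V) (hv : ρ v = 0) : ∃ z ∈ m.J, m.dV z = v := by
  letI : Algebra m.PP D := m.f.toRingHom.toAlgebra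
  haveI : IsScalarTower R m.PP D := .of_algebraMap_eq fun r => (m.f.commutes r).symm
  have hsurj : Function.Surjective (algebraMap m.PP D) := m.surj
  set t : D ⊗[m.PP] Ω[m.PP⁄R] := ∑ i, (m.b.repr v i) ⊗ₜ[m.PP] KaehlerDifferential.D R m.PP (X i) with ht
  have h0 : KaehlerDifferential.mapBaseChange R m.PP D t = 0 := by
    rw [ht, map_sum]
    simp only [KaehlerDifferential.mapBaseChange_tmul, KaehlerDifferential.map_D]
    have : ∀ i, (m.b.repr v i) • (KaehlerDifferential.D R D) (algebraMap m.PP D (X i)) =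
        ρ ((m.b.repr v i) • m.b i) := fun i => by
      rw [map_smul, m.hb]; rfl
    rw [Finset.sum_congr rfl fun i _ => this i, ← map_sum, m.b.sum_repr, hv]
  obtain ⟨y, hy⟩ := (KaehlerDifferential.exact_kerCotangentToTensor_mapBaseChange R m.PP D hsurj t).1 h0
  obtain ⟨z, rfl⟩ := Ideal.toCotangent_surjective _ y
  rw [KaehlerDifferential.kerCotangentToTensor_toCotangent] at hy
  refine ⟨z.1, z.2, ?_⟩
  set B := (KaehlerDifferential.mvPolynomialBasis R (Fin m.M)).baseChange D with hB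
  have key : ∀ i, m.f (pderiv i z.1) = m.b.repr v i := by
    intro i
    have h1 := congrArg (fun w => B.repr w i) hy
    simp only [hB, ht, map_sum, Module.Basis.baseChange_repr_tmul, Finsupp.coe_finsetSum,
      Finset.sum_apply, KaehlerDifferential.mvPolynomialBasis_repr_apply] at h1
    rw [Finset.sum_eq_single i] at h1
    · simp only [pderiv_X_self, one_smul] at h1
      rw [← h1, Algebra.smul_def, mul_one]
      rfl
    · intro j _ hj
      rw [pderiv_X_of_ne hj, zero_smul]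
    · simp
  rw [dV_apply]
  simp only [key]
  exact m.b.sum_repr v

/-- The pairs `(f z, dV z)` are exactly the pairs `(d, v)` with `ρ v = d`. -/
theorem exists_of_rho (d : D) (v : V) (h : ρ v = KaehlerDifferential.D R D d) :
    ∃ z : m.PP, m.f z = d ∧ m.dV z = v := by
  obtain ⟨z, rfl⟩ := m.surj d
  obtain ⟨w, hw, hw'⟩ := m.exists_mem_J (v - m.dV z) (by rw [map_sub, h, m.rho_dV, sub_self])
  exact ⟨z + w, by rw [map_add, m.mem_J.1 hw, add_zero], by rw [map_add, hw', add_sub_cancel]⟩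

end Model

section

variable {R : Type*} [CommRing R]
  {D : Type*} [CommRing D] [Algebra R D] {V : Type*} [AddCommGroup V] [Module D V] (ρ : V →ₗ[D] Ω[D⁄R])
  {D' : Type*} [CommRing D'] [Algebra R D'] {V' : Type*} [AddCommGroup V'] [Module D' V']
  (ρ' : V' →ₗ[D'] Ω[D'⁄R])

/-- A (semilinear) map of the data `(D, V, ρ)`. -/
structure DatumHom where
  /-- the map of algebras -/
  η : D →ₐ[R] D'
  /-- the semilinear map of modules -/
  ηV : V →+ V'
  map_smul : ∀ (d : D) (v : V), ηV (d • v) = η d • ηV v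
  compat : ∀ (v : V) (x : D), ρ v = KaehlerDifferential.D R D x →
    ρ' (ηV v) = KaehlerDifferential.D R D' (η x)

end

namespace DatumHom

variable {R : Type*} [CommRing R]
  {D : Type*} [CommRing D] [Algebra R D] {V : Type*} [AddCommGroup V] [Module D V] {ρ : V →ₗ[D] Ω[D⁄R]}
  {D' : Type*} [CommRing D'] [Algebra R D'] {V' : Type*} [AddCommGroup V'] [Module D' V']
  {ρ' : V' →ₗ[D'] Ω[D'⁄R]}
  {D'' : Type*} [CommRing D''] [Algebra R D''] {V'' : Type*} [AddCommGroup V''] [Module D'' V'']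
  {ρ'' : V'' →ₗ[D''] Ω[D''⁄R]}

/-- The identity. -/
def id (ρ : V →ₗ[D] Ω[D⁄R]) : DatumHom ρ ρ where
  η := AlgHom.id R D
  ηV := AddMonoidHom.id V
  map_smul _ _ := rfl
  compat _ _ h := h

/-- Composition. -/
def comp (g : DatumHom ρ' ρ'') (h : DatumHom ρ ρ') : DatumHom ρ ρ'' where
  η := g.η.comp h.η
  ηV := g.ηV.comp h.ηV
  map_smul d v := by simp [h.map_smul, g.map_smul]
  compat v x hx := g.compat _ _ (h.compat _ _ hx)

@[simp] theorem id_η : (id ρ).η = AlgHom.id R D := rfl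
@[simp] theorem id_ηV : (id ρ).ηV = AddMonoidHom.id V := rfl
@[simp] theorem comp_η (g : DatumHom ρ' ρ'') (h : DatumHom ρ ρ') : (g.comp h).η = g.η.comp h.η := rfl
@[simp] theorem comp_ηV (g : DatumHom ρ' ρ'') (h : DatumHom ρ ρ') : (g.comp h).ηV = g.ηV.comp h.ηV := rfl

@[ext] theorem ext {g h : DatumHom ρ ρ'} (h1 : g.η = h.η) (h2 : g.ηV = h.ηV) : g = h := by
  cases g; cases h; cases h1; cases h2; rfl

end DatumHom

section modelHom

variable {R : Type*} [CommRing R]
  {D : Type*} [CommRing D] [Algebra R D] {V : Type*} [AddCommGroup V] [Module D V] {ρ : V →ₗ[D] Ω[D⁄R]}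
  {D' : Type*} [CommRing D'] [Algebra R D'] {V' : Type*} [AddCommGroup V'] [Module D' V']
  {ρ' : V' →ₗ[D'] Ω[D'⁄R]}
  {D'' : Type*} [CommRing D''] [Algebra R D''] {V'' : Type*} [AddCommGroup V''] [Module D'' V'']
  {ρ'' : V'' →ₗ[D''] Ω[D''⁄R]}
  {m : Model R D V ρ} {m' : Model R D' V' ρ'} {m'' : Model R D'' V'' ρ''}

/-- An algebra map of polynomial rings over a map of data. -/
structure IsModelHom (h : DatumHom ρ ρ') (φ : m.PP →ₐ[R] m'.PP) : Prop where
  f_eq : ∀ z, m'.f (φ z) = h.η (m.f z)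
  dV_eq : ∀ z, m'.dV (φ z) = h.ηV (m.dV z)

/-- It is enough to test on the variables. -/
theorem isModelHom_of_X (h : DatumHom ρ ρ') (φ : m.PP →ₐ[R] m'.PP)
    (h1 : ∀ i, m'.f (φ (X i)) = h.η (m.f (X i))) (h2 : ∀ i, m'.dV (φ (X i)) = h.ηV (m.b i)) :
    IsModelHom h φ := by
  have hf : ∀ z, m'.f (φ z) = h.η (m.f z) := fun z => by
    have : m'.f.comp φ = h.η.comp m.f := MvPolynomial.algHom_ext fun i => h1 i
    exact DFunLike.congr_fun this z
  refine ⟨hf, fun z => ?_⟩
  induction z using MvPolynomial.induction_on with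
  | C a =>
    rw [Model.dV_C, map_zero, ← MvPolynomial.algebraMap_eq, AlgHom.commutes, Model.dV_algebraMap]
  | add p q hp hq => rw [map_add, map_add, hp, hq, map_add, map_add]
  | mul_X p j hp =>
    rw [map_mul, Model.dV_mul, hf, hf, hp, h2, Model.dV_mul, map_add, h.map_smul, h.map_smul, Model.dV_X]

theorem IsModelHom.id (m : Model R D V ρ) : IsModelHom (m := m) (m' := m) (DatumHom.id ρ) (AlgHom.id R m.PP) :=
  ⟨fun _ => rfl, fun _ => rfl⟩

theorem IsModelHom.comp {g : DatumHom ρ' ρ''} {h : DatumHom ρ ρ'} {ψ : m'.PP →ₐ[R] m''.PP}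
    {φ : m.PP →ₐ[R] m'.PP} (hψ : IsModelHom g ψ) (hφ : IsModelHom h φ) : IsModelHom (g.comp h) (ψ.comp φ) :=
  ⟨fun z => by simp [hψ.f_eq, hφ.f_eq], fun z => by simp [hψ.dV_eq, hφ.dV_eq]⟩

/-- (1) Every map of data lifts to the models. -/
theorem exists_modelHom (m : Model R D V ρ) (m' : Model R D' V' ρ') (h : DatumHom ρ ρ') :
    ∃ φ : m.PP →ₐ[R] m'.PP, IsModelHom h φ := by
  have : ∀ i, ∃ z : m'.PP, m'.f z = h.η (m.f (X i)) ∧ m'.dV z = h.ηV (m.b i) := fun i =>
    m'.exists_of_rho _ _ (h.compat _ _ (m.hb i))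
  choose y hy1 hy2 using this
  refine ⟨MvPolynomial.aeval y, isModelHom_of_X h _ (fun i => ?_) fun i => ?_⟩
  · rw [aeval_X]; exact hy1 i
  · rw [aeval_X]; exact hy2 i

namespace IsModelHom

variable {h : DatumHom ρ ρ'} {φ ψ : m.PP →ₐ[R] m'.PP}

theorem map_J (hφ : IsModelHom h φ) {z : m.PP} (hz : z ∈ m.J) : φ z ∈ m'.J := by
  rw [Model.mem_J, hφ.f_eq, m.mem_J.1 hz, map_zero]

theorem map_J2 (hφ : IsModelHom h φ) {z : m.PP} (hz : z ∈ m.J2) : φ z ∈ m'.J2 :=
  ⟨by rw [hφ.f_eq, hz.1, map_zero], by rw [hφ.dV_eq, hz.2, map_zero]⟩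

/-- (2) A map of models respects the filtrations. -/
theorem map_Fil_le (hφ : IsModelHom h φ) (n : ℕ) : m.Fil n ≤ (m'.Fil n).comap φ := by
  refine m.Fil_le fun a b hab => ?_
  rw [← Ideal.map_le_iff_le_comap, Ideal.map_mul, Ideal.map_pow, Ideal.map_pow]
  refine (Ideal.mul_mono (Ideal.pow_right_mono ?_ a) (Ideal.pow_right_mono ?_ b)).trans (m'.le_Fil hab)
  · rw [Ideal.map_le_iff_le_comap]; exact fun z hz => hφ.map_J hz
  · rw [Ideal.map_le_iff_le_comap]; exact fun z hz => hφ.map_J2 hz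

theorem map_Fil (hφ : IsModelHom h φ) {n : ℕ} {z : m.PP} (hz : z ∈ m.Fil n) : φ z ∈ m'.Fil n :=
  hφ.map_Fil_le n hz

/-- (3a) Two maps of models over the same map of data agree modulo `Fil 2`. -/
theorem sub_mem_Fil_two (hφ : IsModelHom h φ) (hψ : IsModelHom h ψ) (z : m.PP) : φ z - ψ z ∈ m'.Fil 2 := by
  rw [Model.Fil_two]
  exact ⟨by rw [map_sub, hφ.f_eq, hψ.f_eq, sub_self], by rw [map_sub, hφ.dV_eq, hψ.dV_eq, sub_self]⟩

/-- (3b) If two maps of models agree modulo `Fil (n+1)`, `n ≥ 1`, then their difference raises `Fil` by `n`. -/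
theorem sub_mem_Fil (hφ : IsModelHom h φ) (hψ : IsModelHom h ψ) {n : ℕ}
    (hn : ∀ i, φ (X i) - ψ (X i) ∈ m'.Fil (n + 1)) (p : ℕ) {z : m.PP} (hz : z ∈ m.Fil p) :
    φ z - ψ z ∈ m'.Fil (p + n) := by
  have hall : ∀ z, φ z - ψ z ∈ m'.Fil (n + 1) := fun z => (taylor φ ψ _ hn z).1
  -- the set of elements of `Fil p` with the property is closed under products and sums
  have hJ : ∀ z ∈ m.J, φ z - ψ z ∈ m'.Fil (1 + n) := fun z _ => by rw [add_comm]; exact hall z
  have hJ2 : ∀ z ∈ m.J2, φ z - ψ z ∈ m'.Fil (2 + n) := by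
    intro z hz
    have h1 := (taylor φ ψ _ hn z).2
    have h2 : ∑ i, (φ (X i) - ψ (X i)) * ψ (pderiv i z) ∈ m'.Fil (2 + n) := by
      refine Ideal.sum_mem _ fun i _ => ?_
      have h3 : ψ (pderiv i z) ∈ m'.Fil 1 := by
        rw [Model.Fil_one]; exact hψ.map_J ((m.mem_J2_iff.1 hz).2 i)
      have := m'.mul_mem_Fil (hn i) h3
      rwa [show n + 1 + 1 = 2 + n by omega] at this
    have h4 : φ z - ψ z - ∑ i, (φ (X i) - ψ (X i)) * ψ (pderiv i z) ∈ m'.Fil (2 + n) := by
      refine m'.Fil_antitone (by omega) (m'.Fil_pow_le (n + 1) 2 h1)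
    have := (m'.Fil (2 + n)).add_mem h4 h2
    rwa [sub_add_cancel] at this
  -- products
  have hmul : ∀ (a b : ℕ) (x y : m.PP), x ∈ m.Fil a → y ∈ m.Fil b → φ x - ψ x ∈ m'.Fil (a + n) →
      φ y - ψ y ∈ m'.Fil (b + n) → φ (x * y) - ψ (x * y) ∈ m'.Fil (a + b + n) := by
    intro a b x y hx hy h1 h2
    have e : φ (x * y) - ψ (x * y) = (φ x - ψ x) * φ y + ψ x * (φ y - ψ y) := by
      rw [map_mul, map_mul]; ring
    rw [e]
    refine Ideal.add_mem _ ?_ ?_
    · have := m'.mul_mem_Fil h1 (hφ.map_Fil hy)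
      rwa [show a + n + b = a + b + n by omega] at this
    · have := m'.mul_mem_Fil (hψ.map_Fil hx) h2
      rwa [show a + (b + n) = a + b + n by omega] at this
  -- the property for an ideal
  have hpow : ∀ (I : Ideal m.PP) (c : ℕ), I ≤ m.Fil c → (∀ z ∈ I, φ z - ψ z ∈ m'.Fil (c + n)) →
      ∀ k, ∀ z ∈ I ^ k, φ z - ψ z ∈ m'.Fil (k * c + n) := by
    intro I c hIc hI k
    induction k with
    | zero =>
      intro z _
      rw [zero_mul, zero_add]
      exact m'.Fil_antitone (Nat.le_succ n) (hall z)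
    | succ k ih =>
      intro z hz
      rw [pow_succ] at hz
      refine Submodule.mul_induction_on hz (fun x hx y hy => ?_) fun x y hx hy => ?_
      · have hx' : x ∈ m.Fil (k * c) := m.Fil_pow_le c k (Ideal.pow_right_mono hIc k hx)
        have := hmul (k * c) c x y hx' (hIc hy) (ih x hx) (hI y hy)
        rwa [show k * c + c + n = (k + 1) * c + n by ring] at this
      · rw [map_add, map_add, add_sub_add_comm]
        exact Ideal.add_mem _ hx hy
  have hgen : ∀ a b, p ≤ a + 2 * b → ∀ z ∈ m.J ^ a * m.J2 ^ b, φ z - ψ z ∈ m'.Fil (p + n) := by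
    intro a b hab z hz
    refine Submodule.mul_induction_on hz (fun x hx y hy => ?_) fun x y hx hy => ?_
    · have hx1 := hpow m.J 1 (le_of_eq m.Fil_one.symm) hJ a x hx
      have hy1 := hpow m.J2 2 (le_of_eq m.Fil_two.symm) hJ2 b y hy
      have hx2 : x ∈ m.Fil (a * 1) := m.Fil_pow_le 1 a (by rwa [Model.Fil_one])
      have hy2 : y ∈ m.Fil (b * 2) := m.Fil_pow_le 2 b (by rwa [Model.Fil_two])
      exact m'.Fil_antitone (by omega) (hmul _ _ x y hx2 hy2 hx1 hy1)
    · rw [map_add, map_add, add_sub_add_comm]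
      exact Ideal.add_mem _ hx hy
  -- conclude by sums
  have : ∀ z ∈ m.Fil p, φ z - ψ z ∈ m'.Fil (p + n) := by
    intro z hz
    refine Submodule.iSup_induction (fun a => ⨆ (b : ℕ) (_ : p ≤ a + 2 * b), m.J ^ a * m.J2 ^ b)
      (motive := fun z => φ z - ψ z ∈ m'.Fil (p + n)) hz (fun a x hx => ?_) (by simp) ?_
    · refine Submodule.iSup_induction (fun b => ⨆ (_ : p ≤ a + 2 * b), m.J ^ a * m.J2 ^ b)
        (motive := fun z => φ z - ψ z ∈ m'.Fil (p + n)) hx (fun b y hy => ?_) (by simp) ?_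
      · by_cases hab : p ≤ a + 2 * b
        · simp only [hab, iSup_pos] at hy
          exact hgen a b hab y hy
        · simp only [hab, iSup_neg, not_false_eq_true, Submodule.mem_bot] at hy
          simp [hy]
      · intro x y hx hy
        rw [map_add, map_add, add_sub_add_comm]
        exact Ideal.add_mem _ hx hy
    · intro x y hx hy
      rw [map_add, map_add, add_sub_add_comm]
      exact Ideal.add_mem _ hx hy
  exact this z hz

/-- (3c) Two maps of models over the same map of data induce the same map on `gr`. -/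
theorem sub_mem_Fil_succ (hφ : IsModelHom h φ) (hψ : IsModelHom h ψ) (p : ℕ) {z : m.PP} (hz : z ∈ m.Fil p) :
    φ z - ψ z ∈ m'.Fil (p + 1) :=
  hφ.sub_mem_Fil hψ (fun i => hφ.sub_mem_Fil_two hψ (X i)) p hz

end IsModelHom

end modelHom

end Groth.Agent.ResProp.EF.K863
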