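import Groth.Agent.ResProp.EF.K863.Gr

/-!
# Intrinsic description of the lifts on the quotients `PP / Fil n` (G3, 3.2)
-/

set_option autoImplicit false

open MvPolynomial

namespace Groth.Agent.ResProp.EF.K863

section qHom

variable {R : Type*} [CommRing R]
  {D : Type*} [CommRing D] [Algebra R D] {V : Type*} [AddCommGroup V] [Module D V] {ρ : V →ₗ[D] Ω[D⁄R]}
  {D' : Type*} [CommRing D'] [Algebra R D'] {V' : Type*} [AddCommGroup V'] [Module D' V']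
  {ρ' : V' →ₗ[D'] Ω[D'⁄R]}
  {D'' : Type*} [CommRing D''] [Algebra R D''] {V'' : Type*} [AddCommGroup V''] [Module D'' V'']
  {ρ'' : V'' →ₗ[D''] Ω[D''⁄R]}
  {m : Model R D V ρ} {m' : Model R D' V' ρ'} {m'' : Model R D'' V'' ρ''}

namespace Model

variable (m)

theorem Fil_le_J {n : ℕ} (hn : 1 ≤ n) : m.Fil n ≤ m.J := by
  rw [← Fil_one]; exact m.Fil_antitone hn

theorem Fil_le_J2 {n : ℕ} (hn : 2 ≤ n) : m.Fil n ≤ m.J2 := by
  rw [← Fil_two]; exact m.Fil_antitone hn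

/-- The map `PP / Fil n → D`, `n ≥ 1`. -/
noncomputable def fQ {n : ℕ} (hn : 1 ≤ n) : m.Q n →ₐ[R] D :=
  Ideal.Quotient.liftₐ (m.Fil n) m.f fun _ hz => m.mem_J.1 (m.Fil_le_J hn hz)

@[simp] theorem fQ_mk {n : ℕ} (hn : 1 ≤ n) (z : m.PP) : m.fQ hn (Ideal.Quotient.mk _ z) = m.f z := rfl

theorem fQ_surjective {n : ℕ} (hn : 1 ≤ n) : Function.Surjective (m.fQ hn) := fun d => by
  obtain ⟨z, rfl⟩ := m.surj d
  exact ⟨Ideal.Quotient.mk _ z, rfl⟩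

theorem fQ_eq_zero_iff {n : ℕ} (hn : 1 ≤ n) {x : m.Q n} : m.fQ hn x = 0 ↔ x ∈ m.FilQ n 1 := by
  obtain ⟨z, rfl⟩ := Ideal.Quotient.mk_surjective x
  rw [fQ_mk, mk_mem_FilQ hn, Fil_one, mem_J]

/-- The differential `PP / Fil n → V`, `n ≥ 2`. -/
noncomputable def dQ {n : ℕ} (hn : 2 ≤ n) : m.Q n →+ V :=
  QuotientAddGroup.lift (Submodule.toAddSubgroup (m.Fil n)) m.dV fun _ hz => (m.mem_J2.1 (m.Fil_le_J2 hn hz)).2

@[simp] theorem dQ_mk {n : ℕ} (hn : 2 ≤ n) (z : m.PP) : m.dQ hn (Ideal.Quotient.mk _ z) = m.dV z := rfl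

theorem dQ_mul {n : ℕ} (hn : 2 ≤ n) (x y : m.Q n) :
    m.dQ hn (x * y) = m.fQ (one_le_two.trans hn) x • m.dQ hn y + m.fQ (one_le_two.trans hn) y • m.dQ hn x := by
  obtain ⟨z, rfl⟩ := Ideal.Quotient.mk_surjective x
  obtain ⟨w, rfl⟩ := Ideal.Quotient.mk_surjective y
  exact m.dV_mul z w

theorem dQ_algebraMap {n : ℕ} (hn : 2 ≤ n) (r : R) : m.dQ hn (algebraMap R _ r) = 0 := m.dV_algebraMap r

theorem mem_FilQ_two_iff {n : ℕ} (hn : 2 ≤ n) {x : m.Q n} :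
    x ∈ m.FilQ n 2 ↔ m.fQ (one_le_two.trans hn) x = 0 ∧ m.dQ hn x = 0 := by
  obtain ⟨z, rfl⟩ := Ideal.Quotient.mk_surjective x
  rw [mk_mem_FilQ hn, Fil_two, mem_J2]
  exact Iff.rfl

/-- `dQ` as an `R`-linear map. -/
noncomputable def dQl [Module R V] [IsScalarTower R D V] {n : ℕ} (hn : 2 ≤ n) : m.Q n →ₗ[R] V where
  toFun := m.dQ hn
  map_add' := map_add _
  map_smul' r x := by
    have e : r • x = algebraMap R (m.Q n) r * x := Algebra.smul_def r x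
    rw [RingHom.id_apply, e, dQ_mul, dQ_algebraMap, smul_zero, add_zero, AlgHom.commutes, algebraMap_smul]

@[simp] theorem dQl_apply [Module R V] [IsScalarTower R D V] {n : ℕ} (hn : 2 ≤ n) (x : m.Q n) :
    m.dQl hn x = m.dQ hn x := rfl

end Model

/-- An algebra map `PP / Fil n → PP' / Fil' n` over a map of data. -/
structure IsQHom {n : ℕ} (hn : 2 ≤ n) (h : DatumHom ρ ρ') (φ : m.Q n →ₐ[R] m'.Q n) : Prop where
  f_eq : ∀ x, m'.fQ (one_le_two.trans hn) (φ x) = h.η (m.fQ (one_le_two.trans hn) x)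
  d_eq : ∀ x, m'.dQ hn (φ x) = h.ηV (m.dQ hn x)

theorem IsModelHom.isQHom {n : ℕ} (hn : 2 ≤ n) {h : DatumHom ρ ρ'} {Φ : m.PP →ₐ[R] m'.PP}
    (hΦ : IsModelHom h Φ) : IsQHom hn h (hΦ.mapQ n) where
  f_eq x := by
    obtain ⟨z, rfl⟩ := Ideal.Quotient.mk_surjective x
    exact hΦ.f_eq z
  d_eq x := by
    obtain ⟨z, rfl⟩ := Ideal.Quotient.mk_surjective x
    exact hΦ.dV_eq z

namespace IsQHom

variable {n : ℕ} {hn : 2 ≤ n}

/-- Every algebra map over a map of data comes from a map of models. -/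
theorem exists_lift {h : DatumHom ρ ρ'} {φ : m.Q n →ₐ[R] m'.Q n} (hφ : IsQHom hn h φ) :
    ∃ (Φ : m.PP →ₐ[R] m'.PP) (hΦ : IsModelHom h Φ), hΦ.mapQ n = φ := by
  have : ∀ i, ∃ z : m'.PP, Ideal.Quotient.mk (m'.Fil n) z = φ (Ideal.Quotient.mk _ (X i)) := fun i =>
    Ideal.Quotient.mk_surjective _
  choose y hy using this
  have hΦ : IsModelHom h (MvPolynomial.aeval (R := R) y : m.PP →ₐ[R] m'.PP) := by
    refine isModelHom_of_X h _ (fun i => ?_) fun i => ?_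
    · have := hφ.f_eq (Ideal.Quotient.mk _ (X i))
      rw [← hy i] at this
      rw [aeval_X]
      exact this
    · have := hφ.d_eq (Ideal.Quotient.mk _ (X i))
      rw [← hy i] at this
      rw [aeval_X]
      exact this.trans (congrArg _ (m.dV_X i))
  refine ⟨_, hΦ, ?_⟩
  have key : ((hΦ.mapQ n).comp (Ideal.Quotient.mkₐ R (m.Fil n)) : m.PP →ₐ[R] m'.Q n) =
      φ.comp (Ideal.Quotient.mkₐ R (m.Fil n)) := MvPolynomial.algHom_ext fun i => by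
    change Ideal.Quotient.mk (m'.Fil n) (MvPolynomial.aeval (R := R) y (X i)) = φ (Ideal.Quotient.mk _ (X i))
    rw [aeval_X]
    exact hy i
  refine AlgHom.ext fun x => ?_
  obtain ⟨z, rfl⟩ := Ideal.Quotient.mk_surjective x
  exact DFunLike.congr_fun key z

theorem mem {h : DatumHom ρ ρ'} {φ : m.Q n →ₐ[R] m'.Q n} (hφ : IsQHom hn h φ) {p : ℕ} {x : m.Q n}
    (hx : x ∈ m.FilQ n p) : φ x ∈ m'.FilQ n p := by
  obtain ⟨Φ, hΦ, rfl⟩ := hφ.exists_lift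
  exact hΦ.mapQ_mem hx

theorem sub_mem_two {h : DatumHom ρ ρ'} {φ ψ : m.Q n →ₐ[R] m'.Q n} (hφ : IsQHom hn h φ)
    (hψ : IsQHom hn h ψ) (x : m.Q n) : φ x - ψ x ∈ m'.FilQ n 2 := by
  obtain ⟨Φ, hΦ, rfl⟩ := hφ.exists_lift
  obtain ⟨Ψ, hΨ, rfl⟩ := hψ.exists_lift
  exact hΦ.mapQ_sub_mem_two hΨ n x

theorem sub_mem {h : DatumHom ρ ρ'} {φ ψ : m.Q n →ₐ[R] m'.Q n} (hφ : IsQHom hn h φ)
    (hψ : IsQHom hn h ψ) {p : ℕ} {x : m.Q n} (hx : x ∈ m.FilQ n p) : φ x - ψ x ∈ m'.FilQ n (p + 1) := by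
  obtain ⟨Φ, hΦ, rfl⟩ := hφ.exists_lift
  obtain ⟨Ψ, hΨ, rfl⟩ := hψ.exists_lift
  exact hΦ.mapQ_sub_mem hΨ n p hx

theorem id (hn : 2 ≤ n) (m : Model R D V ρ) : IsQHom (m := m) (m' := m) hn (DatumHom.id ρ) (AlgHom.id R (m.Q n)) :=
  ⟨fun _ => rfl, fun _ => rfl⟩

theorem comp {g : DatumHom ρ' ρ''} {h : DatumHom ρ ρ'} {ψ : m'.Q n →ₐ[R] m''.Q n} {φ : m.Q n →ₐ[R] m'.Q n}
    (hψ : IsQHom hn g ψ) (hφ : IsQHom hn h φ) : IsQHom hn (g.comp h) (ψ.comp φ) :=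
  ⟨fun x => by simp [hψ.f_eq, hφ.f_eq], fun x => by simp [hψ.d_eq, hφ.d_eq]⟩

/-- The inverse of an algebra isomorphism over an isomorphism of data. -/
theorem symm {h : DatumHom ρ ρ'} {g : DatumHom ρ' ρ} (hg : h.IsInv g) {φ : m.Q n ≃ₐ[R] m'.Q n}
    (hφ : IsQHom hn h φ.toAlgHom) : IsQHom hn g φ.symm.toAlgHom where
  f_eq x := by
    obtain ⟨y, rfl⟩ := φ.surjective x
    have h1 : m'.fQ (one_le_two.trans hn) (φ y) = h.η (m.fQ (one_le_two.trans hn) y) := hφ.f_eq y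
    have h2 : g.η (h.η (m.fQ (one_le_two.trans hn) y)) = m.fQ (one_le_two.trans hn) y :=
      DFunLike.congr_fun (congrArg DatumHom.η hg.left) _
    change m.fQ _ (φ.symm (φ y)) = g.η (m'.fQ _ (φ y))
    rw [φ.symm_apply_apply, h1, h2]
  d_eq x := by
    obtain ⟨y, rfl⟩ := φ.surjective x
    have h1 : m'.dQ hn (φ y) = h.ηV (m.dQ hn y) := hφ.d_eq y
    have h2 : g.ηV (h.ηV (m.dQ hn y)) = m.dQ hn y :=
      DFunLike.congr_fun (congrArg DatumHom.ηV hg.left) _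
    change m.dQ _ (φ.symm (φ y)) = g.ηV (m'.dQ _ (φ y))
    rw [φ.symm_apply_apply, h1, h2]

/-- Over an isomorphism of data, every algebra map is an isomorphism. -/
theorem bijective {h : DatumHom ρ ρ'} {g : DatumHom ρ' ρ} (hg : h.IsInv g) {φ : m.Q n →ₐ[R] m'.Q n}
    (hφ : IsQHom hn h φ) : Function.Bijective φ := by
  obtain ⟨Φ, hΦ, rfl⟩ := hφ.exists_lift
  exact hΦ.bijective_mapQ hg n

/-- Existence of isomorphisms over isomorphisms of data. -/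
theorem exists_equiv (hn : 2 ≤ n) (m : Model R D V ρ) (m' : Model R D' V' ρ') {h : DatumHom ρ ρ'}
    {g : DatumHom ρ' ρ} (hg : h.IsInv g) : ∃ φ : m.Q n ≃ₐ[R] m'.Q n, IsQHom hn h φ.toAlgHom := by
  obtain ⟨Φ, hΦ⟩ := exists_modelHom m m' h
  exact ⟨hΦ.equivQ hg n, hΦ.isQHom hn⟩

theorem mem_iff {h : DatumHom ρ ρ'} {g : DatumHom ρ' ρ} (hg : h.IsInv g) {φ : m.Q n →ₐ[R] m'.Q n}
    (hφ : IsQHom hn h φ) {p : ℕ} {x : m.Q n} : φ x ∈ m'.FilQ n p ↔ x ∈ m.FilQ n p := by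
  rcases le_or_gt p n with hp | hp
  · obtain ⟨Φ, hΦ, rfl⟩ := hφ.exists_lift
    exact hΦ.mapQ_mem_iff hg hp
  · rw [m.FilQ_self hp.le, m'.FilQ_self hp.le, Submodule.mem_bot, Submodule.mem_bot]
    refine ⟨fun hx => (hφ.bijective hg).1 (hx.trans (map_zero φ).symm), fun hx => by rw [hx, map_zero]⟩

end IsQHom

end qHom

end Groth.Agent.ResProp.EF.K863
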