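import Groth.Agent.ResProp.EF.K863.PullA
import Groth.Agent.ResProp.EF.K863.QHom

/-!
# Lifts of isomorphisms of base-changed data to `P = PP / Fil n`, in base change form

`IsLP m hn η ηV φ` : `φ : BC x (m.Q n) ≃ₐ[R'] BC y (m.Q n)` lies over `η : BC x D ≃ₐ BC y D` and
`ηV : BC x V ≃ₗ BC y V`.  Formal closure properties hold for all points; `BCModel` (a model of the base-changed datum
computing `BC x (m.Q n)`, available for flat `x`) gives existence and the estimates for the filtration.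
-/

set_option autoImplicit false

open MvPolynomial

namespace Groth.Agent.ResProp.EF.K863

open K980

section

variable {R : Type*} [CommRing R]
  {D : Type*} [CommRing D] [Algebra R D] {V : Type*} [AddCommGroup V] [Module D V]
  {ρ : V →ₗ[D] Ω[D⁄R]} (m : Model R D V ρ) {n : ℕ} (hn : 2 ≤ n)
  {R' : Type*} [CommRing R'] {R'' : Type*} [CommRing R'']
  {x y z : R →+* R'} {x' y' : R →+* R''} {f : R' →+* R''}

/-- The map `BC x (PP / Fil n) → BC x D`. -/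
noncomputable def fB (x : R →+* R') : BC x (m.Q n) →ₐ[R'] BC x D := BC.mapAlg x (m.fQ (one_le_two.trans hn))

@[simp] theorem fB_bc (q : m.Q n) : fB m hn x (bc x q) = bc x (m.fQ (one_le_two.trans hn) q) := BC.mapAlg_bc _ _

theorem fB_surjective : Function.Surjective (fB m hn x) := fun d => by
  have h : Function.Surjective (BC.map x (m.fQ (one_le_two.trans hn)).toLinearMap) :=
    BC.map_surjective (m.fQ_surjective (one_le_two.trans hn))
  obtain ⟨q, hq⟩ := h d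
  exact ⟨q, by rw [fB, BC.mapAlg_eq_map]; exact hq⟩

theorem tr_fB (hx : f.comp x = x') (q : BC x (m.Q n)) : BC.tr f hx (fB m hn x q) = fB m hn x' (BC.tr f hx q) :=
  tr_mapAlg hx _ q

/-- The filtration of `BC x (PP / Fil n)`. -/
noncomputable def FilBC (x : R →+* R') (p : ℕ) : Submodule R' (BC x (m.Q n)) :=
  subBC x ((m.FilQ n p).restrictScalars R)

variable {m} in
theorem bc_mem_FilBC {p : ℕ} {q : m.Q n} (hq : q ∈ m.FilQ n p) : bc x q ∈ FilBC m (n := n) x p :=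
  ⟨bc x ⟨q, hq⟩, BC.map_bc _ _⟩

variable {m} in
theorem tr_mem_FilBC (hx : f.comp x = x') {p : ℕ} {q : BC x (m.Q n)} (hq : q ∈ FilBC m x p) :
    BC.tr f hx q ∈ FilBC m x' p := by
  obtain ⟨u, rfl⟩ := hq
  exact ⟨BC.tr f hx u, by rw [BC.tr_map]⟩

variable [Module R V] [IsScalarTower R D V]

/-- The map `BC x (PP / Fil n) → BC x V`. -/
noncomputable def dB (x : R →+* R') : BC x (m.Q n) →ₗ[R'] BC x V := BC.map x (m.dQl hn)

@[simp] theorem dB_bc (q : m.Q n) : dB m hn x (bc x q) = bc x (m.dQ hn q) := BC.map_bc _ _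

theorem tr_dB (hx : f.comp x = x') (q : BC x (m.Q n)) : BC.tr f hx (dB m hn x q) = dB m hn x' (BC.tr f hx q) :=
  BC.tr_map hx _ q

/-- Lifts to `PP / Fil n` of a pair of isomorphisms on `D` and on `V`. -/
structure IsLP (η : BC x D ≃ₐ[R'] BC y D) (ηV : BC x V ≃ₗ[R'] BC y V)
    (φ : BC x (m.Q n) ≃ₐ[R'] BC y (m.Q n)) : Prop where
  f_eq : ∀ q, fB m hn y (φ q) = η (fB m hn x q)
  d_eq : ∀ q, dB m hn y (φ q) = ηV (dB m hn x q)

namespace IsLP

variable {m hn}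

theorem refl (x : R →+* R') : IsLP m hn (x := x) AlgEquiv.refl (LinearEquiv.refl R' _) AlgEquiv.refl :=
  ⟨fun _ => rfl, fun _ => rfl⟩

theorem trans {η : BC x D ≃ₐ[R'] BC y D} {ηV : BC x V ≃ₗ[R'] BC y V} {φ : BC x (m.Q n) ≃ₐ[R'] BC y (m.Q n)}
    {η₂ : BC y D ≃ₐ[R'] BC z D} {ηV₂ : BC y V ≃ₗ[R'] BC z V} {φ₂ : BC y (m.Q n) ≃ₐ[R'] BC z (m.Q n)}
    (h : IsLP m hn η ηV φ) (h₂ : IsLP m hn η₂ ηV₂ φ₂) :
    IsLP m hn (η.trans η₂) (ηV.trans ηV₂) (φ.trans φ₂) where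
  f_eq q := by rw [AlgEquiv.trans_apply, AlgEquiv.trans_apply, h₂.f_eq, h.f_eq]
  d_eq q := by rw [AlgEquiv.trans_apply, LinearEquiv.trans_apply, h₂.d_eq, h.d_eq]

theorem symm {η : BC x D ≃ₐ[R'] BC y D} {ηV : BC x V ≃ₗ[R'] BC y V} {φ : BC x (m.Q n) ≃ₐ[R'] BC y (m.Q n)}
    (h : IsLP m hn η ηV φ) : IsLP m hn η.symm ηV.symm φ.symm where
  f_eq q := by
    obtain ⟨p, rfl⟩ := φ.surjective q
    rw [φ.symm_apply_apply, h.f_eq, η.symm_apply_apply]
  d_eq q := by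
    obtain ⟨p, rfl⟩ := φ.surjective q
    rw [φ.symm_apply_apply, h.d_eq, ηV.symm_apply_apply]

theorem pull (hx : f.comp x = x') (hy : f.comp y = y') {η : BC x D ≃ₐ[R'] BC y D} {ηV : BC x V ≃ₗ[R'] BC y V}
    {φ : BC x (m.Q n) ≃ₐ[R'] BC y (m.Q n)} (h : IsLP m hn η ηV φ) :
    IsLP m hn (pullA f hx hy η) (BC.pullE f hx hy ηV) (pullA f hx hy φ) where
  f_eq q := by
    have : (fB m hn y').toLinearMap ∘ₗ (pullA f hx hy φ).toLinearMap =
        (pullA f hx hy η).toLinearMap ∘ₗ (fB m hn x').toLinearMap := by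
      refine BC.hom_ext fun p => ?_
      change fB m hn y' (pullA f hx hy φ (bc x' p)) = pullA f hx hy η (fB m hn x' (bc x' p))
      rw [pullA_bc, ← tr_fB, h.f_eq, fB_bc, fB_bc, pullA_bc]
    exact LinearMap.congr_fun this q
  d_eq q := by
    have : (dB m hn y') ∘ₗ (pullA f hx hy φ).toLinearMap =
        (BC.pullE f hx hy ηV).toLinearMap ∘ₗ (dB m hn x') := by
      refine BC.hom_ext fun p => ?_
      change dB m hn y' (pullA f hx hy φ (bc x' p)) = BC.pullE f hx hy ηV (dB m hn x' (bc x' p))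
      rw [pullA_bc, ← tr_dB, h.d_eq, dB_bc, dB_bc, BC.pullE_bc]
    exact LinearMap.congr_fun this q

end IsLP

/-- A model over `R'` of the base-changed datum which computes `BC x (PP / Fil n)`. -/
structure BCModel (x : R →+* R') (ρx : BC x V →ₗ[BC x D] Ω[BC x D⁄R']) where
  /-- the model -/
  mx : Model R' (BC x D) (BC x V) ρx
  /-- the comparison -/
  e : BC x (m.Q n) ≃ₐ[R'] mx.Q n
  f_e : ∀ q, mx.fQ (one_le_two.trans hn) (e q) = fB m hn x q
  d_e : ∀ q, mx.dQ hn (e q) = dB m hn x q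
  fil_e : ∀ p q, e q ∈ mx.FilQ n p ↔ q ∈ FilBC m x p

section flat

variable {m hn} {ρx : BC x V →ₗ[BC x D] Ω[BC x D⁄R']} {ρy : BC y V →ₗ[BC y D] Ω[BC y D⁄R']}
  (Mx : BCModel m hn x ρx) (My : BCModel m hn y ρy)

/-- The map of data given by `η` and `ηV`. -/
noncomputable def toDatumHom (η : BC x D ≃ₐ[R'] BC y D) (ηV : BC x V ≃ₗ[R'] BC y V) (h1 : ∀ d v, ηV (d • v) = η d • ηV v)
    (h2 : ∀ v d, ρx v = KaehlerDifferential.D R' (BC x D) d → ρy (ηV v) = KaehlerDifferential.D R' (BC y D) (η d)) :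
    DatumHom ρx ρy where
  η := η.toAlgHom
  ηV := ηV.toLinearMap.toAddMonoidHom
  map_smul := h1
  compat := h2

theorem isInv_toDatumHom (η : BC x D ≃ₐ[R'] BC y D) (ηV : BC x V ≃ₗ[R'] BC y V)
    (h1 : ∀ d v, ηV (d • v) = η d • ηV v)
    (h2 : ∀ v d, ρx v = KaehlerDifferential.D R' (BC x D) d → ρy (ηV v) = KaehlerDifferential.D R' (BC y D) (η d))
    (h1' : ∀ d v, ηV.symm (d • v) = η.symm d • ηV.symm v)
    (h2' : ∀ v d, ρy v = KaehlerDifferential.D R' (BC y D) d →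
      ρx (ηV.symm v) = KaehlerDifferential.D R' (BC x D) (η.symm d)) :
    (toDatumHom η ηV h1 h2).IsInv (toDatumHom η.symm ηV.symm h1' h2') where
  left := DatumHom.ext (AlgHom.ext fun d => η.symm_apply_apply d) (AddMonoidHom.ext fun v => ηV.symm_apply_apply v)
  right := DatumHom.ext (AlgHom.ext fun d => η.apply_symm_apply d) (AddMonoidHom.ext fun v => ηV.apply_symm_apply v)

/-- Transport of a lift to the models. -/
noncomputable def BCModel.conj (φ : BC x (m.Q n) ≃ₐ[R'] BC y (m.Q n)) : Mx.mx.Q n ≃ₐ[R'] My.mx.Q n :=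
  (Mx.e.symm.trans φ).trans My.e

theorem BCModel.conj_e (φ : BC x (m.Q n) ≃ₐ[R'] BC y (m.Q n)) (q : BC x (m.Q n)) :
    Mx.conj My φ (Mx.e q) = My.e (φ q) := by
  rw [BCModel.conj, AlgEquiv.trans_apply, AlgEquiv.trans_apply, AlgEquiv.symm_apply_apply]

theorem IsLP.isQHom {η : BC x D ≃ₐ[R'] BC y D} {ηV : BC x V ≃ₗ[R'] BC y V} {φ : BC x (m.Q n) ≃ₐ[R'] BC y (m.Q n)}
    (h : IsLP m hn η ηV φ) (h1 : ∀ d v, ηV (d • v) = η d • ηV v)
    (h2 : ∀ v d, ρx v = KaehlerDifferential.D R' (BC x D) d → ρy (ηV v) = KaehlerDifferential.D R' (BC y D) (η d)) :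
    IsQHom hn (toDatumHom η ηV h1 h2) (Mx.conj My φ).toAlgHom where
  f_eq q := by
    obtain ⟨p, rfl⟩ := Mx.e.surjective q
    change My.mx.fQ _ (Mx.conj My φ (Mx.e p)) = η (Mx.mx.fQ _ (Mx.e p))
    rw [BCModel.conj_e, My.f_e, Mx.f_e, h.f_eq]
  d_eq q := by
    obtain ⟨p, rfl⟩ := Mx.e.surjective q
    change My.mx.dQ _ (Mx.conj My φ (Mx.e p)) = ηV (Mx.mx.dQ _ (Mx.e p))
    rw [BCModel.conj_e, My.d_e, Mx.d_e, h.d_eq]

include Mx My

/-- Existence of lifts. -/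
theorem exists_isLP (η : BC x D ≃ₐ[R'] BC y D) (ηV : BC x V ≃ₗ[R'] BC y V)
    (h1 : ∀ d v, ηV (d • v) = η d • ηV v)
    (h2 : ∀ v d, ρx v = KaehlerDifferential.D R' (BC x D) d → ρy (ηV v) = KaehlerDifferential.D R' (BC y D) (η d))
    (h1' : ∀ d v, ηV.symm (d • v) = η.symm d • ηV.symm v)
    (h2' : ∀ v d, ρy v = KaehlerDifferential.D R' (BC y D) d →
      ρx (ηV.symm v) = KaehlerDifferential.D R' (BC x D) (η.symm d)) :
    ∃ φ : BC x (m.Q n) ≃ₐ[R'] BC y (m.Q n), IsLP m hn η ηV φ := by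
  obtain ⟨θ, hθ⟩ := IsQHom.exists_equiv hn Mx.mx My.mx (isInv_toDatumHom η ηV h1 h2 h1' h2')
  refine ⟨(Mx.e.trans θ).trans My.e.symm, fun q => ?_, fun q => ?_⟩
  · have h := hθ.f_eq (Mx.e q)
    rw [Mx.f_e] at h
    rw [AlgEquiv.trans_apply, AlgEquiv.trans_apply, ← My.f_e, AlgEquiv.apply_symm_apply]
    exact h
  · have h := hθ.d_eq (Mx.e q)
    rw [Mx.d_e] at h
    rw [AlgEquiv.trans_apply, AlgEquiv.trans_apply, ← My.d_e, AlgEquiv.apply_symm_apply]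
    exact h

variable {η : BC x D ≃ₐ[R'] BC y D} {ηV : BC x V ≃ₗ[R'] BC y V} {φ ψ : BC x (m.Q n) ≃ₐ[R'] BC y (m.Q n)}
  (h1 : ∀ d v, ηV (d • v) = η d • ηV v)
  (h2 : ∀ v d, ρx v = KaehlerDifferential.D R' (BC x D) d → ρy (ηV v) = KaehlerDifferential.D R' (BC y D) (η d))

include h1 h2

/-- Lifts respect the filtration. -/
theorem IsLP.mem (h : IsLP m hn η ηV φ) {p : ℕ} {q : BC x (m.Q n)} (hq : q ∈ FilBC m x p) :
    φ q ∈ FilBC m y p := by
  rw [← My.fil_e, ← Mx.conj_e My]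
  exact (h.isQHom Mx My h1 h2).mem ((Mx.fil_e p q).2 hq)

/-- Two lifts agree modulo `Fil 2`. -/
theorem IsLP.sub_mem_two (h : IsLP m hn η ηV φ) (h' : IsLP m hn η ηV ψ) (q : BC x (m.Q n)) :
    φ q - ψ q ∈ FilBC m y 2 := by
  rw [← My.fil_e, map_sub, ← Mx.conj_e My, ← Mx.conj_e My]
  exact (h.isQHom Mx My h1 h2).sub_mem_two (h'.isQHom Mx My h1 h2) _

/-- The difference of two lifts raises the filtration by one. -/
theorem IsLP.sub_mem (h : IsLP m hn η ηV φ) (h' : IsLP m hn η ηV ψ) {p : ℕ} {q : BC x (m.Q n)}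
    (hq : q ∈ FilBC m x p) : φ q - ψ q ∈ FilBC m y (p + 1) := by
  rw [← My.fil_e, map_sub, ← Mx.conj_e My, ← Mx.conj_e My]
  exact (h.isQHom Mx My h1 h2).sub_mem (h'.isQHom Mx My h1 h2) ((Mx.fil_e p q).2 hq)

end flat

end

end Groth.Agent.ResProp.EF.K863
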