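import Mathlib.RingTheory.Kaehler.Basic
import Mathlib.RingTheory.Kaehler.Polynomial
import Mathlib.RingTheory.Ideal.Cotangent
import Mathlib.Algebra.MvPolynomial.PDeriv

/-!
# Models of an `R`-algebra `D` with prescribed differentials (G3, 3.1 - 3.2)

`R` a commutative ring, `D` an `R`-algebra, `ρ : V → Ω[D⁄R]` a `D`-linear map. A model is a polynomial ring
`PP = R[X₁, .., X_M]` with a surjection `f : PP → D` and a basis `b` of `V` with `ρ (b i) = d (f X_i)`.
-/

set_option autoImplicit false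

open MvPolynomial

namespace Groth.Agent.ResProp.EF.K863

/-- A model of `D` over `R` with differentials in `V` (`V ≃ Ω_PP ⊗ D` over `Ω_D`). -/
structure Model (R : Type*) [CommRing R] (D : Type*) [CommRing D] [Algebra R D] (V : Type*)
    [AddCommGroup V] [Module D V] (ρ : V →ₗ[D] Ω[D⁄R]) where
  /-- the number of variables -/
  M : ℕ
  /-- the presentation -/
  f : MvPolynomial (Fin M) R →ₐ[R] D
  surj : Function.Surjective f
  /-- the basis of `V` corresponding to `dX_i` -/
  b : Module.Basis (Fin M) D V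
  hb : ∀ i, ρ (b i) = KaehlerDifferential.D R D (f (X i))

section taylor

variable {R : Type*} [CommRing R] {σ : Type*} [Fintype σ] {Q : Type*} [CommRing Q] [Algebra R Q]

/-- First order Taylor formula for two algebra maps on a polynomial ring which agree modulo `I`. -/
theorem taylor (α β : MvPolynomial σ R →ₐ[R] Q) (I : Ideal Q) (h : ∀ i, α (X i) - β (X i) ∈ I)
    (z : MvPolynomial σ R) :
    α z - β z ∈ I ∧ α z - β z - ∑ i, (α (X i) - β (X i)) * β (pderiv i z) ∈ I ^ 2 := by
  classical
  induction z using MvPolynomial.induction_on with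
  | C a =>
    simp only [← MvPolynomial.algebraMap_eq, AlgHom.commutes, sub_self, Derivation.map_algebraMap, map_zero,
      mul_zero, Finset.sum_const_zero]
    exact ⟨I.zero_mem, (I ^ 2).zero_mem⟩
  | add p q hp hq =>
    refine ⟨?_, ?_⟩
    · rw [map_add, map_add, add_sub_add_comm]
      exact I.add_mem hp.1 hq.1
    · have : α (p + q) - β (p + q) - ∑ i, (α (X i) - β (X i)) * β (pderiv i (p + q)) =
          (α p - β p - ∑ i, (α (X i) - β (X i)) * β (pderiv i p)) +
          (α q - β q - ∑ i, (α (X i) - β (X i)) * β (pderiv i q)) := by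
        simp only [map_add, mul_add, Finset.sum_add_distrib]
        ring
      rw [this]
      exact (I ^ 2).add_mem hp.2 hq.2
  | mul_X p j hp =>
    have e1 : α (p * X j) - β (p * X j) =
        (α p - β p) * α (X j) + β p * (α (X j) - β (X j)) := by
      rw [map_mul, map_mul]; ring
    refine ⟨?_, ?_⟩
    · rw [e1]
      exact I.add_mem (I.mul_mem_right _ hp.1) (I.mul_mem_left _ (h j))
    · have e2 : ∑ i, (α (X i) - β (X i)) * β (pderiv i (p * X j)) =
          (∑ i, (α (X i) - β (X i)) * β (pderiv i p)) * β (X j) + β p * (α (X j) - β (X j)) := by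
        have : ∀ i, (α (X i) - β (X i)) * β (pderiv i (p * X j)) =
            ((α (X i) - β (X i)) * β (pderiv i p)) * β (X j) +
              (if i = j then β p * (α (X j) - β (X j)) else 0) := by
          intro i
          rw [Derivation.leibniz, MvPolynomial.pderiv_X]
          simp only [smul_eq_mul, map_add, map_mul]
          by_cases hij : i = j
          · subst hij
            simp
            ring
          · simp [hij, Ne.symm hij]
            ring
        rw [Finset.sum_congr rfl (fun i _ => this i), Finset.sum_add_distrib, ← Finset.sum_mul]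
        simp
      have e3 : α (p * X j) - β (p * X j) - ∑ i, (α (X i) - β (X i)) * β (pderiv i (p * X j)) =
          (α p - β p - ∑ i, (α (X i) - β (X i)) * β (pderiv i p)) * β (X j) +
            (α p - β p) * (α (X j) - β (X j)) := by
        rw [e1, e2]; ring
      rw [e3]
      refine (I ^ 2).add_mem ((I ^ 2).mul_mem_right _ hp.2) ?_
      rw [pow_two]
      exact Ideal.mul_mem_mul hp.1 (h j)

end taylor

namespace Model

variable {R : Type*} [CommRing R] {D : Type*} [CommRing D] [Algebra R D] {V : Type*}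
  [AddCommGroup V] [Module D V] {ρ : V →ₗ[D] Ω[D⁄R]} (m : Model R D V ρ)

/-- The polynomial ring of a model. -/
abbrev PP : Type _ := MvPolynomial (Fin m.M) R

/-- The differential with values in `V`. -/
noncomputable def dV : m.PP →+ V where
  toFun z := ∑ i, m.f (pderiv i z) • m.b i
  map_zero' := by simp
  map_add' x y := by simp [add_smul, Finset.sum_add_distrib]

theorem dV_apply (z : m.PP) : m.dV z = ∑ i, m.f (pderiv i z) • m.b i := rfl

theorem dV_mul (x y : m.PP) : m.dV (x * y) = m.f x • m.dV y + m.f y • m.dV x := by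
  simp only [dV_apply, Derivation.leibniz, smul_eq_mul, map_add, map_mul, add_smul,
    Finset.sum_add_distrib, Finset.smul_sum, mul_smul]

@[simp] theorem dV_X (i : Fin m.M) : m.dV (X i) = m.b i := by
  classical
  rw [dV_apply, Finset.sum_eq_single i]
  · simp
  · intro j _ hj
    rw [MvPolynomial.pderiv_X_of_ne (Ne.symm hj), map_zero, zero_smul]
  · simp

@[simp] theorem dV_C (a : R) : m.dV (C a) = 0 := by
  rw [dV_apply]
  simp

theorem dV_algebraMap (a : R) : m.dV (algebraMap R _ a) = 0 := m.dV_C a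

/-- `ρ (dV z) = d (f z)`. -/
theorem rho_dV (z : m.PP) : ρ (m.dV z) = KaehlerDifferential.D R D (m.f z) := by
  induction z using MvPolynomial.induction_on with
  | C a =>
    rw [dV_C, map_zero, ← MvPolynomial.algebraMap_eq, AlgHom.commutes, Derivation.map_algebraMap]
  | add p q hp hq => rw [map_add, map_add, hp, hq, map_add, map_add]
  | mul_X p j hp =>
    rw [dV_mul, map_add, map_smul, map_smul, hp, dV_X, m.hb, map_mul, Derivation.leibniz]

/-- The kernel of the presentation. -/
noncomputable def J : Ideal m.PP := RingHom.ker m.f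

theorem mem_J {z : m.PP} : z ∈ m.J ↔ m.f z = 0 := Iff.rfl

theorem dV_mul_of_mem_J {x z : m.PP} (hz : z ∈ m.J) : m.dV (x * z) = m.f x • m.dV z := by
  rw [dV_mul, (m.mem_J.1 hz), zero_smul, add_zero]

/-- The elements of the kernel with differential `0` in `V`. -/
noncomputable def J2 : Ideal m.PP where
  carrier := {z | m.f z = 0 ∧ m.dV z = 0}
  zero_mem' := ⟨map_zero _, map_zero _⟩
  add_mem' := by
    rintro a b ⟨ha, ha'⟩ ⟨hb, hb'⟩
    exact ⟨by rw [map_add, ha, hb, add_zero], by rw [map_add, ha', hb', add_zero]⟩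
  smul_mem' := by
    rintro c a ⟨ha, ha'⟩
    refine ⟨by rw [smul_eq_mul, map_mul, ha, mul_zero], ?_⟩
    rw [smul_eq_mul, m.dV_mul_of_mem_J (m.mem_J.2 ha), ha', smul_zero]

theorem mem_J2 {z : m.PP} : z ∈ m.J2 ↔ m.f z = 0 ∧ m.dV z = 0 := Iff.rfl

theorem dV_eq_zero_iff {z : m.PP} : m.dV z = 0 ↔ ∀ i, pderiv i z ∈ m.J := by
  rw [dV_apply]
  constructor
  · intro h i
    have := (Fintype.linearIndependent_iff.1 m.b.linearIndependent) _ h i
    exact this
  · intro h
    exact Finset.sum_eq_zero fun i _ => by rw [m.mem_J.1 (h i), zero_smul]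

theorem mem_J2_iff {z : m.PP} : z ∈ m.J2 ↔ z ∈ m.J ∧ ∀ i, pderiv i z ∈ m.J := by
  rw [mem_J2, dV_eq_zero_iff, mem_J]

theorem J2_le_J : m.J2 ≤ m.J := fun _ hz => hz.1

theorem J_sq_le : m.J ^ 2 ≤ m.J2 := by
  rw [pow_two, Ideal.mul_le]
  intro x hx y hy
  refine ⟨by rw [map_mul, m.mem_J.1 hx, zero_mul], ?_⟩
  rw [m.dV_mul_of_mem_J hy, m.mem_J.1 hx, zero_smul]

/-- The filtration: `J` has weight `1`, `J2` has weight `2`. -/
noncomputable def Fil (n : ℕ) : Ideal m.PP :=
  ⨆ (a : ℕ) (b : ℕ) (_ : n ≤ a + 2 * b), m.J ^ a * m.J2 ^ b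

theorem le_Fil {n a b : ℕ} (h : n ≤ a + 2 * b) : m.J ^ a * m.J2 ^ b ≤ m.Fil n :=
  le_iSup_of_le a (le_iSup_of_le b (le_iSup_of_le h le_rfl))

theorem Fil_le {n : ℕ} {I : Ideal m.PP} (h : ∀ a b, n ≤ a + 2 * b → m.J ^ a * m.J2 ^ b ≤ I) : m.Fil n ≤ I :=
  iSup_le fun a => iSup_le fun b => iSup_le fun hab => h a b hab

theorem Fil_antitone : Antitone m.Fil := fun _ _ h =>
  m.Fil_le fun _ _ hab => m.le_Fil (h.trans hab)

theorem Fil_succ_le (n : ℕ) : m.Fil (n + 1) ≤ m.Fil n := m.Fil_antitone (Nat.le_succ n)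

@[simp] theorem Fil_zero : m.Fil 0 = ⊤ := by
  refine top_le_iff.1 ?_
  have := m.le_Fil (n := 0) (a := 0) (b := 0) le_rfl
  simpa using this

theorem J_pow_le_Fil (a : ℕ) : m.J ^ a ≤ m.Fil a := by
  have := m.le_Fil (n := a) (a := a) (b := 0) (by omega)
  simpa using this

theorem J2_pow_le_Fil (b : ℕ) : m.J2 ^ b ≤ m.Fil (2 * b) := by
  have := m.le_Fil (n := 2 * b) (a := 0) (b := b) (by omega)
  simpa using this

@[simp] theorem Fil_one : m.Fil 1 = m.J := by
  refine le_antisymm (m.Fil_le fun a b hab => ?_) (by simpa using m.J_pow_le_Fil 1)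
  rcases Nat.eq_zero_or_pos a with ha | ha
  · have hb : b ≠ 0 := by omega
    refine Ideal.mul_le_right.trans ((Ideal.pow_le_self hb).trans m.J2_le_J)
  · exact Ideal.mul_le_left.trans (Ideal.pow_le_self ha.ne')

@[simp] theorem Fil_two : m.Fil 2 = m.J2 := by
  refine le_antisymm (m.Fil_le fun a b hab => ?_) (by simpa using m.J2_pow_le_Fil 1)
  rcases Nat.eq_zero_or_pos b with hb | hb
  · exact Ideal.mul_le_left.trans ((Ideal.pow_le_pow_right (by omega : 2 ≤ a)).trans m.J_sq_le)
  · exact Ideal.mul_le_right.trans (Ideal.pow_le_self hb.ne')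

theorem Fil_mul_le (p q : ℕ) : m.Fil p * m.Fil q ≤ m.Fil (p + q) := by
  rw [Fil, Fil, Ideal.iSup_mul]
  refine iSup_le fun a => ?_
  rw [Ideal.iSup_mul]
  refine iSup_le fun b => ?_
  rw [Ideal.iSup_mul]
  refine iSup_le fun hab => ?_
  rw [Ideal.mul_iSup]
  refine iSup_le fun a' => ?_
  rw [Ideal.mul_iSup]
  refine iSup_le fun b' => ?_
  rw [Ideal.mul_iSup]
  refine iSup_le fun hab' => ?_
  have : m.J ^ a * m.J2 ^ b * (m.J ^ a' * m.J2 ^ b') = m.J ^ (a + a') * m.J2 ^ (b + b') := by
    rw [pow_add, pow_add]; ring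
  rw [this]
  exact m.le_Fil (by omega)

theorem mul_mem_Fil {p q : ℕ} {x y : m.PP} (hx : x ∈ m.Fil p) (hy : y ∈ m.Fil q) : x * y ∈ m.Fil (p + q) :=
  m.Fil_mul_le p q (Ideal.mul_mem_mul hx hy)

theorem Fil_pow_le (p n : ℕ) : m.Fil p ^ n ≤ m.Fil (n * p) := by
  induction n with
  | zero => simp
  | succ n ih =>
    rw [pow_succ]
    refine (Ideal.mul_mono_left ih).trans ((m.Fil_mul_le _ _).trans (le_of_eq ?_))
    congr 1
    ring

end Model

end Groth.Agent.ResProp.EF.K863
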