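import Groth.Agent.ResProp.EF.K964.BCAlg
import Groth.Agent.ResProp.EF.K980.Alg

/-!
# Pull-back of algebra isomorphisms `BC x A ≃ₐ[R'] BC y B`
-/

set_option autoImplicit false

namespace Groth.Agent.ResProp.EF.K863

open K980

section

variable {R R' R'' : Type*} [CommRing R] [CommRing R'] [CommRing R'']
  {A : Type*} [CommRing A] [Algebra R A] {B : Type*} [CommRing B] [Algebra R B] {C : Type*} [CommRing C] [Algebra R C]
  {x y z : R →+* R'} {x' y' z' : R →+* R''} {f : R' →+* R''}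

/-- The pull-back of an isomorphism of algebras. -/
noncomputable def pullA (f : R' →+* R'') (hx : f.comp x = x') (hy : f.comp y = y') (φ : BC x A ≃ₐ[R'] BC y B) :
    BC x' A ≃ₐ[R''] BC y' B :=
  AlgEquiv.ofLinearEquiv (BC.pullE f hx hy φ.toLinearEquiv)
    (by
      rw [← BC.bc_one, BC.pullE_bc]
      change BC.tr f hy (φ (bc x 1)) = _
      rw [BC.bc_one, map_one, BC.tr_one])
    (fun u v => by
      induction u using BC.ind with
      | h0 => rw [zero_mul, map_zero, zero_mul]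
      | h2 a b ha hb => rw [add_mul, map_add, map_add, ha, hb, add_mul]
      | h1 r a =>
        induction v using BC.ind with
        | h0 => rw [mul_zero, map_zero, mul_zero]
        | h2 a b ha hb => rw [mul_add, map_add, map_add, ha, hb, mul_add]
        | h1 s b =>
          rw [smul_mul_smul_comm, ← BC.bc_mul, map_smul, map_smul, map_smul, smul_mul_smul_comm, BC.pullE_bc,
            BC.pullE_bc, BC.pullE_bc]
          change (r * s) • BC.tr f hy (φ (bc x (a * b))) = (r * s) • (BC.tr f hy (φ (bc x a)) * BC.tr f hy (φ (bc x b)))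
          rw [BC.bc_mul, map_mul, BC.tr_mul])

@[simp] theorem pullA_toLinearEquiv (hx : f.comp x = x') (hy : f.comp y = y') (φ : BC x A ≃ₐ[R'] BC y B) :
    (pullA f hx hy φ).toLinearEquiv = BC.pullE f hx hy φ.toLinearEquiv := rfl

theorem pullA_apply (hx : f.comp x = x') (hy : f.comp y = y') (φ : BC x A ≃ₐ[R'] BC y B) (u : BC x' A) :
    pullA f hx hy φ u = BC.pullE f hx hy φ.toLinearEquiv u := rfl

@[simp] theorem pullA_bc (hx : f.comp x = x') (hy : f.comp y = y') (φ : BC x A ≃ₐ[R'] BC y B) (a : A) :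
    pullA f hx hy φ (bc x' a) = BC.tr f hy (φ (bc x a)) := BC.pullE_bc hx hy φ.toLinearEquiv a

@[simp] theorem pullA_tr (hx : f.comp x = x') (hy : f.comp y = y') (φ : BC x A ≃ₐ[R'] BC y B) (u : BC x A) :
    pullA f hx hy φ (BC.tr f hx u) = BC.tr f hy (φ u) := BC.pullE_tr hx hy φ.toLinearEquiv u

theorem algEquiv_ext {S : Type*} [CommRing S] [Algebra R' S] {φ ψ : BC x A ≃ₐ[R'] S}
    (h : ∀ a, φ (bc x a) = ψ (bc x a)) : φ = ψ :=
  AlgEquiv.ext fun u => DFunLike.congr_fun (BC.algHom_ext (f := φ.toAlgHom) (g := ψ.toAlgHom) h) u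

theorem pullA_symm (hx : f.comp x = x') (hy : f.comp y = y') (φ : BC x A ≃ₐ[R'] BC y B) :
    (pullA f hx hy φ).symm = pullA f hy hx φ.symm := by
  refine AlgEquiv.ext fun u => ?_
  rfl

theorem pullA_trans (hx : f.comp x = x') (hy : f.comp y = y') (hz : f.comp z = z') (φ : BC x A ≃ₐ[R'] BC y B)
    (ψ : BC y B ≃ₐ[R'] BC z C) : pullA f hx hz (φ.trans ψ) = (pullA f hx hy φ).trans (pullA f hy hz ψ) :=
  algEquiv_ext fun a => by
    rw [pullA_bc, AlgEquiv.trans_apply, AlgEquiv.trans_apply, pullA_bc, pullA_tr]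

theorem pullA_refl (hx : f.comp x = x') : pullA f hx hx (AlgEquiv.refl : BC x A ≃ₐ[R'] BC x A) = AlgEquiv.refl :=
  algEquiv_ext fun a => by
    rw [pullA_bc, AlgEquiv.coe_refl, id, AlgEquiv.coe_refl, id, BC.tr_bc]

theorem pullA_idRing (φ : BC x A ≃ₐ[R'] BC y B) (hx : (RingHom.id R').comp x = x)
    (hy : (RingHom.id R').comp y = y) : pullA (RingHom.id R') hx hy φ = φ :=
  algEquiv_ext fun a => by rw [pullA_bc, BC.tr_id]

theorem pullA_pullA {T : Type*} [CommRing T] {g : R'' →+* T} {x'' y'' : R →+* T} (hx : f.comp x = x')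
    (hy : f.comp y = y') (hx' : g.comp x' = x'') (hy' : g.comp y' = y'') (hx'' : (g.comp f).comp x = x'')
    (hy'' : (g.comp f).comp y = y'') (φ : BC x A ≃ₐ[R'] BC y B) :
    pullA g hx' hy' (pullA f hx hy φ) = pullA (g.comp f) hx'' hy'' φ :=
  algEquiv_ext fun a => by rw [pullA_bc, pullA_bc, pullA_bc, BC.tr_tr hy hy' hy'']

/-- `mapAlg` and further base change. -/
theorem tr_mapAlg (hx : f.comp x = x') (g : A →ₐ[R] B) (u : BC x A) :
    BC.tr f hx (BC.mapAlg x g u) = BC.mapAlg x' g (BC.tr f hx u) := by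
  rw [BC.mapAlg_eq_map, BC.mapAlg_eq_map, BC.tr_map]

end

end Groth.Agent.ResProp.EF.K863
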